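import Cfsg.Agent.Lib.OrthTwoGen.Core

/-!
# Two generators of `Ω` from a frame of hyperbolic pairs

* `Frame Q n e f` : `n` mutually orthogonal hyperbolic pairs
* `cycleEl` : the negative cycle, times a product of reflections on the rest
* `Frame.exists_two_gen`, `Frame.exists_two_gen_model` : two generators from data on the rest
-/

set_option autoImplicit false
set_option linter.unusedSectionVars false

namespace Cfsg.Agent.OrthTwoGen

open Cfsg Matrix Module Cfsg.Agent.Orth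
open QuadraticMap (polar)

variable {ι : Type} [Fintype ι] [DecidableEq ι] {F : Type*} [Field F] [Fintype F]
variable {Q : QuadraticForm F (ι → F)}

/-- `n` mutually orthogonal hyperbolic pairs. -/
structure Frame (Q : QuadraticForm F (ι → F)) (n : ℕ) (e f : ℕ → ι → F) : Prop where
  qe : ∀ i, i < n → Q (e i) = 0
  qf : ∀ i, i < n → Q (f i) = 0
  pf : ∀ i, i < n → polar ⇑Q (e i) (f i) = 1
  ee : ∀ i j, i < n → j < n → i ≠ j → polar ⇑Q (e i) (e j) = 0
  ef : ∀ i j, i < n → j < n → i ≠ j → polar ⇑Q (e i) (f j) = 0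
  ff : ∀ i j, i < n → j < n → i ≠ j → polar ⇑Q (f i) (f j) = 0

/-- Orthogonal to every member of the frame. -/
def Off (Q : QuadraticForm F (ι → F)) (n : ℕ) (e f : ℕ → ι → F) (w : ι → F) : Prop :=
  ∀ i, i < n → polar ⇑Q (e i) w = 0 ∧ polar ⇑Q (f i) w = 0

/-- The exchange of two pairs. -/
noncomputable def swapEl (Q : QuadraticForm F (ι → F)) (a a' c c' : ι → F) : IsoGrp Q :=
  eich Q a c' * eich Q c (-a') * eich Q a c'

theorem swapEl_ap {a a' c c' : ι → F} (hpa : HPair Q a a') (hpc : HPair Q c c') (h1 : polar ⇑Q a c = 0)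
    (h2 : polar ⇑Q a c' = 0) (h3 : polar ⇑Q a' c = 0) (h4 : polar ⇑Q a' c' = 0) :
    ap (swapEl Q a a' c c') a = c ∧ ap (swapEl Q a a' c c') a' = c' ∧ ap (swapEl Q a a' c c') c = -a ∧
      ap (swapEl Q a a' c c') c' = -a' ∧
      ∀ w, polar ⇑Q a w = 0 → polar ⇑Q a' w = 0 → polar ⇑Q c w = 0 → polar ⇑Q c' w = 0 →
        ap (swapEl Q a a' c c') w = w := by
  have haa : polar ⇑Q a a = 0 := by rw [pl_self, hpa.qe, mul_zero]
  have ha'a' : polar ⇑Q a' a' = 0 := by rw [pl_self, hpa.qf, mul_zero]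
  have hcc : polar ⇑Q c c = 0 := by rw [pl_self, hpc.qe, mul_zero]
  have hc'c' : polar ⇑Q c' c' = 0 := by rw [pl_self, hpc.qf, mul_zero]
  have h5 : polar ⇑Q c (-a') = 0 := by rw [pl_neg_right, pl_comm (Q := Q), h3, neg_zero]
  have hap : ∀ x, ap (swapEl Q a a' c c') x = ap (eich Q a c') (ap (eich Q c (-a')) (ap (eich Q a c') x)) :=
    fun x => by rw [swapEl, ap_mul, ap_mul]
  refine ⟨?_, ?_, ?_, ?_, fun w e1 e2 e3 e4 => ?_⟩
  all_goals
    rw [hap]
    simp only [eich_ap hpa.qe h2, eich_ap hpc.qe h5, map_add, map_sub, map_smul, QuadraticMap.map_neg, hpa.qf,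
      hpc.qf, hpa.pf, hpc.pf, pl_add_right, pl_sub_right, pl_smul_right, pl_neg_left, pl_neg_right, haa, ha'a',
      hcc, hc'c', h1, h2, h3, h4, pl_comm (Q := Q) a' a, pl_comm (Q := Q) c a, pl_comm (Q := Q) c' a,
      pl_comm (Q := Q) c a', pl_comm (Q := Q) c' a', pl_comm (Q := Q) c' c]
    first
      | module
      | (simp only [e1, e2, e3, e4]; module)

theorem swapEl_mem_eichGen (a a' c c' : ι → F) : swapEl Q a a' c c' ∈ eichGen Q :=
  mul_mem (mul_mem (eich_mem_eichGen _ _) (eich_mem_eichGen _ _)) (eich_mem_eichGen _ _)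

/-- The cycle of the first `k + 1` pairs. -/
noncomputable def shiftEl (Q : QuadraticForm F (ι → F)) (e f : ℕ → ι → F) : ℕ → IsoGrp Q
  | 0 => 1
  | k + 1 => shiftEl Q e f k * swapEl Q (e k) (f k) (e (k + 1)) (f (k + 1))

theorem Frame.hpair {n : ℕ} {e f : ℕ → ι → F} (hF : Frame Q n e f) {i : ℕ} (hi : i < n) :
    HPair Q (e i) (f i) := ⟨hF.qe i hi, hF.qf i hi, hF.pf i hi⟩

theorem Frame.swap {n : ℕ} {e f : ℕ → ι → F} (hF : Frame Q n e f) {i j : ℕ} (hi : i < n) (hj : j < n)
    (hij : i ≠ j) :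
    polar ⇑Q (f i) (e j) = 0 := by rw [pl_comm (Q := Q)]; exact hF.ef j i hj hi hij.symm

theorem Frame.shiftEl_ap {n : ℕ} {e f : ℕ → ι → F} (hF : Frame Q n e f) :
    ∀ k, k < n → (∀ i, i < k → ap (shiftEl Q e f k) (e i) = e (i + 1) ∧ ap (shiftEl Q e f k) (f i) = f (i + 1)) ∧
      ap (shiftEl Q e f k) (e k) = (-1 : F) ^ k • e 0 ∧ ap (shiftEl Q e f k) (f k) = (-1 : F) ^ k • f 0 ∧
      ∀ w, (∀ i, i ≤ k → polar ⇑Q (e i) w = 0 ∧ polar ⇑Q (f i) w = 0) → ap (shiftEl Q e f k) w = w := by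
  intro k
  induction k with
  | zero => intro _; simp [shiftEl]
  | succ k ih =>
    intro hk
    obtain ⟨h1, h2, h3, h4⟩ := ih (by omega)
    have hne : k ≠ k + 1 := by omega
    obtain ⟨s1, s2, s3, s4, s5⟩ := swapEl_ap (hF.hpair (i := k) (by omega)) (hF.hpair hk)
      (hF.ee _ _ (by omega) hk hne) (hF.ef _ _ (by omega) hk hne) (hF.swap (by omega) hk hne)
      (hF.ff _ _ (by omega) hk hne)
    have hfix : ∀ i, i ≤ k → polar ⇑Q (e i) (e (k + 1)) = 0 ∧ polar ⇑Q (f i) (e (k + 1)) = 0 := fun i hi =>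
      ⟨hF.ee _ _ (by omega) hk (by omega), hF.swap (by omega) hk (by omega)⟩
    have hfix' : ∀ i, i ≤ k → polar ⇑Q (e i) (f (k + 1)) = 0 ∧ polar ⇑Q (f i) (f (k + 1)) = 0 := fun i hi =>
      ⟨hF.ef _ _ (by omega) hk (by omega), hF.ff _ _ (by omega) hk (by omega)⟩
    refine ⟨fun i hi => ?_, ?_, ?_, fun w hw => ?_⟩
    · rw [shiftEl, ap_mul, ap_mul]
      rcases Nat.lt_succ_iff_lt_or_eq.1 hi with h | rfl
      · rw [s5 (e i) (hF.ee _ _ (by omega) (by omega) (by omega)) (hF.swap (by omega) (by omega) (by omega))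
          (hF.ee _ _ hk (by omega) (by omega)) (hF.swap hk (by omega) (by omega)),
          s5 (f i) (hF.ef _ _ (by omega) (by omega) (by omega)) (hF.ff _ _ (by omega) (by omega) (by omega))
          (hF.ef _ _ hk (by omega) (by omega)) (hF.ff _ _ hk (by omega) (by omega))]
        exact h1 i h
      · rw [s1, s2]
        exact ⟨h4 _ hfix, h4 _ hfix'⟩
    · rw [shiftEl, ap_mul, s3, map_neg, h2, pow_succ, mul_neg_one, neg_smul]
    · rw [shiftEl, ap_mul, s4, map_neg, h3, pow_succ, mul_neg_one, neg_smul]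
    · rw [shiftEl, ap_mul, s5 w (hw k (by omega)).1 (hw k (by omega)).2 (hw (k + 1) le_rfl).1 (hw (k + 1) le_rfl).2]
      exact h4 w fun i hi => hw i (by omega)

theorem shiftEl_mem_eichGen (e f : ℕ → ι → F) : ∀ k, shiftEl Q e f k ∈ eichGen Q
  | 0 => one_mem _
  | k + 1 => mul_mem (shiftEl_mem_eichGen e f k) (swapEl_mem_eichGen _ _ _ _)

/-- A product of reflections as a map of vectors. -/
noncomputable def reflList (Q : QuadraticForm F (ι → F)) (vs : List (ι → F)) (x : ι → F) : ι → F :=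
  vs.foldr (fun v y => y - ((Q v)⁻¹ * polar ⇑Q v y) • v) x

theorem ap_prod_refl (vs : List (ι → F)) (x : ι → F) : ap (vs.map (refl Q)).prod x = reflList Q vs x := by
  induction vs with
  | nil => simp [reflList]
  | cons v vs ih => rw [List.map_cons, List.prod_cons, ap_mul, ih, refl_ap]; rfl

theorem prod_refl_fix (vs : List (ι → F)) (x : ι → F) (h : ∀ v ∈ vs, polar ⇑Q v x = 0) :
    ap (vs.map (refl Q)).prod x = x := by
  induction vs with
  | nil => simp
  | cons v vs ih =>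
    rw [List.map_cons, List.prod_cons, ap_mul, ih fun w hw => h w (List.mem_cons_of_mem _ hw),
      refl_ap_of_orth Q (h v List.mem_cons_self)]

open Classical in
theorem sign_prod_refl (hG : Good Q) (vs : List (ι → F)) (h : ∀ v ∈ vs, Q v ≠ 0) :
    dick (vs.map (refl Q)).prod = (-1) ^ vs.length ∧
      spin (vs.map (refl Q)).prod = quadraticChar F (vs.map Q).prod := by
  induction vs with
  | nil => simp [dick_one, spin_one]
  | cons v vs ih =>
    obtain ⟨h1, h2⟩ := ih fun w hw => h w (List.mem_cons_of_mem _ hw)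
    have hv := h v List.mem_cons_self
    rw [List.map_cons, List.map_cons, List.prod_cons, List.prod_cons, List.length_cons]
    refine ⟨?_, ?_⟩
    · rw [dick_refl_mul hG.nd _ hv, h1, pow_succ]; ring
    · rw [spin_refl_mul hG.nd _ hv, h2, map_mul]

/-- Two generators from data orthogonal to the frame. -/
theorem Frame.exists_two_gen (hG : Good Q) (h5 : 5 ≤ Fintype.card ι) {n : ℕ} (hn : 2 ≤ n) {e f : ℕ → ι → F}
    (hF : Frame Q n e f) (vs : List (ι → F)) (hodd : Odd vs.length) (hvs : ∀ v ∈ vs, Q v ≠ 0)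
    (hvsOff : ∀ v ∈ vs, Off Q n e f v) (c : ι → F) (hcOff : Off Q n e f c) {t : ℕ}
    (ht : polar ⇑Q c ((reflList Q vs)^[t] c) ≠ 0) (hD : (t + n).Coprime (2 * n))
    (hspan : ∀ w : ι → F, w ∈ Submodule.span F
      ({x | ∃ i, i < n ∧ (x = e i ∨ x = f i)} ∪ Set.range (fun k : ℕ => (reflList Q vs)^[k] c))) :
    ∃ g h : IsoGrp Q, Subgroup.closure ({g, h} : Set (IsoGrp Q)) = Omega F ⇑Q := by
  classical
  obtain ⟨p, rfl⟩ : ∃ p, n = p + 1 := ⟨n - 1, by omega⟩
  set τ := (vs.map (refl Q)).prod with hτ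
  set μ := (vs.map Q).prod with hμ
  have hμ0 : μ ≠ 0 := List.prod_ne_zero fun h => by
    obtain ⟨v, hv, h0⟩ := List.mem_map.1 h
    exact hvs v hv h0
  set R := refl Q (e p + μ • f p) with hR
  have hQR : Q (e p + μ • f p) = μ := by
    rw [Q_add, Q_smul, hF.qe p (by omega), hF.qf p (by omega), pl_smul_right, hF.pf p (by omega)]; ring
  set b := shiftEl Q e f p * (R * τ) with hb
  obtain ⟨hs1, hs2, hs3, hs4⟩ := hF.shiftEl_ap p (by omega)
  have hτe : ∀ i, i < p + 1 → ap τ (e i) = e i ∧ ap τ (f i) = f i := fun i hi =>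
    ⟨prod_refl_fix vs _ fun v hv => by rw [pl_comm (Q := Q)]; exact (hvsOff v hv i hi).1,
      prod_refl_fix vs _ fun v hv => by rw [pl_comm (Q := Q)]; exact (hvsOff v hv i hi).2⟩
  have hbe : ∀ i, i < p → ap b (e i) = e (i + 1) ∧ ap b (f i) = f (i + 1) := fun i hi => by
    rw [hb, ap_mul, ap_mul, ap_mul, ap_mul, (hτe i (by omega)).1, (hτe i (by omega)).2, hR,
      refl_ap_of_orth Q (x := e i) (by
        rw [pl_add_left, pl_smul_left, hF.ee p i (by omega) (by omega) (by omega),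
          hF.swap (by omega) (by omega) (by omega)]; ring),
      refl_ap_of_orth Q (x := f i) (by
        rw [pl_add_left, pl_smul_left, hF.ef p i (by omega) (by omega) (by omega),
          hF.ff p i (by omega) (by omega) (by omega)]; ring)]
    exact hs1 i hi
  set s := -(μ * (-1) ^ p) with hsdef
  set s' := -(μ⁻¹ * (-1) ^ p) with hs'def
  have hpow1 : ((-1 : F) ^ p) ≠ 0 := pow_ne_zero _ (neg_ne_zero.2 one_ne_zero)
  have hs0 : s ≠ 0 := neg_ne_zero.2 (mul_ne_zero hμ0 hpow1)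
  have hs'0 : s' ≠ 0 := neg_ne_zero.2 (mul_ne_zero (inv_ne_zero hμ0) hpow1)
  have hee : polar ⇑Q (e p) (e p) = 0 := by rw [pl_self, hF.qe p (by omega), mul_zero]
  have hffp : polar ⇑Q (f p) (f p) = 0 := by rw [pl_self, hF.qf p (by omega), mul_zero]
  have hblast : ap b (e p) = s • f 0 ∧ ap b (f p) = s' • e 0 := by
    constructor
    · rw [hb, ap_mul, ap_mul, (hτe p (by omega)).1, hR, refl_ap, hQR, pl_add_left, pl_smul_left, hee,
        pl_comm (Q := Q) (f p) (e p), hF.pf p (by omega),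
        show e p - (μ⁻¹ * (0 + μ * 1)) • (e p + μ • f p) = -μ • f p by
          rw [zero_add, mul_one, inv_mul_cancel₀ hμ0, one_smul]; module,
        map_smul, hs3, smul_smul, hsdef, neg_mul]
    · rw [hb, ap_mul, ap_mul, (hτe p (by omega)).2, hR, refl_ap, hQR, pl_add_left, pl_smul_left, hffp,
        hF.pf p (by omega),
        show f p - (μ⁻¹ * (1 + μ * 0)) • (e p + μ • f p) = -μ⁻¹ • e p by
          rw [mul_zero, add_zero, mul_one, smul_add, smul_smul, inv_mul_cancel₀ hμ0, one_smul]; module,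
        map_smul, hs2, smul_smul, hs'def, neg_mul]
  have hbw : ∀ w, Off Q (p + 1) e f w → ap b w = ap τ w ∧ Off Q (p + 1) e f (ap τ w) := fun w hw => by
    have hτw : Off Q (p + 1) e f (ap τ w) := fun i hi =>
      ⟨by rw [← (hτe i hi).1, polar_ap]; exact (hw i hi).1, by rw [← (hτe i hi).2, polar_ap]; exact (hw i hi).2⟩
    refine ⟨?_, hτw⟩
    rw [hb, ap_mul, ap_mul, hR, refl_ap_of_orth Q (by
      rw [pl_add_left, pl_smul_left, (hτw p (by omega)).1, (hτw p (by omega)).2]; ring)]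
    exact hs4 _ fun i hi => hτw i (by omega)
  have hbc : ∀ k : ℕ, ap (b ^ k) c = (reflList Q vs)^[k] c ∧ Off Q (p + 1) e f ((reflList Q vs)^[k] c) := by
    intro k
    induction k with
    | zero => exact ⟨by simp, hcOff⟩
    | succ k ih =>
      rw [pow_succ', ap_mul, ih.1, Function.iterate_succ_apply', (hbw _ ih.2).1, hτ, ap_prod_refl]
      refine ⟨rfl, ?_⟩
      rw [← ap_prod_refl]
      exact (hbw _ ih.2).2
  -- the orbit
  have hbk : ∀ k, k ≤ p → ap (b ^ k) (e 0) = e k := by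
    intro k
    induction k with
    | zero => intro _; simp
    | succ k ih => intro hk; rw [pow_succ', ap_mul, ih (by omega), (hbe k (by omega)).1]
  have hbn : ∀ k, k ≤ p → ap (b ^ (p + 1 + k)) (e 0) = s • f k := by
    intro k
    induction k with
    | zero => intro _; rw [add_zero, pow_succ', ap_mul, hbk p le_rfl, hblast.1]
    | succ k ih =>
      intro hk
      rw [← add_assoc, pow_succ', ap_mul, ih (by omega), map_smul, (hbe k (by omega)).2]
  have hper : ap (b ^ (2 * (p + 1))) (e 0) = (s * s') • e 0 := by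
    rw [show 2 * (p + 1) = p + 1 + p + 1 by omega, pow_succ', ap_mul, hbn p le_rfl, map_smul, hblast.2, smul_smul]
  have hcyc : Cycle Q (p + 1) b (e 0) :=
    { two_le := hn
      sing := hF.qe 0 (by omega)
      orth := fun k hk hkn => by
        rcases Nat.lt_or_ge k (p + 1) with h | h
        · rw [hbk k (by omega)]
          rcases Nat.eq_zero_or_pos k with rfl | h0
          · rw [pl_self, hF.qe 0 (by omega), mul_zero]
          · exact hF.ee 0 k (by omega) h (by omega)
        · obtain ⟨i, rfl⟩ := Nat.exists_eq_add_of_le h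
          rw [hbn i (by omega), pl_smul_right, hF.ef 0 i (by omega) (by omega) (by omega), mul_zero]
      opp := by
        have := hbn 0 (by omega)
        rw [add_zero] at this
        rw [this, pl_smul_right, hF.pf 0 (by omega), mul_one]
        exact hs0
      period := ⟨_, mul_ne_zero hs0 hs'0, hper⟩ }
  haveI : NeZero (2 * (p + 1)) := ⟨by omega⟩
  have hbO : b ∈ Omega F ⇑Q := by
    have hG' := eichGen_le_omega hG.nd (by omega) (.inr h5) (shiftEl_mem_eichGen (Q := Q) e f p)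
    refine mul_mem hG' ((mem_omega_iff hG _).2 ⟨?_, ?_⟩)
    · rw [dick_mul hG, hR, dick_refl hG.nd (by rw [hQR]; exact hμ0), (sign_prod_refl hG vs hvs).1,
        hodd.neg_one_pow]; norm_num
    · rw [spin_mul hG, hR, spin_refl hG.nd (by rw [hQR]; exact hμ0), (sign_prod_refl hG vs hvs).2, hQR, ← hμ,
        ← sq, quadraticChar_sq_one hμ0]
  have hoffK : ∀ k : ℕ, polar ⇑Q (ap (b ^ k) (e 0)) c = 0 := by
    intro k
    have key : ∀ q : ℕ, ∀ r, polar ⇑Q (ap (b ^ r) (e 0)) c = 0 →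
        polar ⇑Q (ap (b ^ (r + 2 * (p + 1) * q)) (e 0)) c = 0 := by
      intro q
      induction q with
      | zero => intro r h; simpa using h
      | succ q ih =>
        intro r h
        rw [show r + 2 * (p + 1) * (q + 1) = r + 2 * (p + 1) * q + 2 * (p + 1) by ring, pow_add, ap_mul, hper,
          map_smul, pl_smul_left, ih r h, mul_zero]
    rw [← Nat.mod_add_div k (2 * (p + 1))]
    refine key _ _ ?_
    have hr := Nat.mod_lt k (show 2 * (p + 1) > 0 by omega)
    generalize k % (2 * (p + 1)) = r at hr ⊢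
    rcases Nat.lt_or_ge r (p + 1) with h | h
    · rw [hbk r (by omega)]; exact (hcOff r h).1
    · obtain ⟨i, rfl⟩ := Nat.exists_eq_add_of_le h
      rw [hbn i (by omega), pl_smul_left, (hcOff i (by omega)).2, mul_zero]
  refine hcyc.exists_two_gen hG h5 hbO hoffK (t := t) (by rw [(hbc t).1]; exact ht)
    ((ZMod.isUnit_iff_coprime _ _).2 hD) fun w => ?_
  refine Submodule.span_le.2 ?_ (hspan w)
  rintro _ (⟨i, hi, rfl | rfl⟩ | ⟨k, rfl⟩)
  · exact Submodule.subset_span (.inl ⟨i, hbk i (by omega)⟩)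
  · have h := Submodule.smul_mem (Submodule.span F
      (Set.range (fun k : ℕ => ap (b ^ k) (e 0)) ∪ Set.range (fun k : ℕ => ap (b ^ k) c))) s⁻¹
      (Submodule.subset_span (.inl ⟨p + 1 + i, hbn i (by omega)⟩))
    rwa [inv_smul_smul₀ hs0] at h
  · exact Submodule.subset_span (.inr ⟨k, (hbc k).1⟩)

/-- Two generators from data in a complement given as an isometric image. -/
theorem Frame.exists_two_gen_model (hG : Good Q) (h5 : 5 ≤ Fintype.card ι) {n : ℕ} (hn : 2 ≤ n)
    {e f : ℕ → ι → F} (hF : Frame Q n e f) {κ : Type} [Fintype κ] [DecidableEq κ]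
    {Q0 : QuadraticForm F (κ → F)} (φ : (κ → F) →ₗ[F] (ι → F)) (hφ : ∀ a, Q (φ a) = Q0 a)
    (hoff : ∀ a, Off Q n e f (φ a))
    (hV : ∀ w : ι → F, w ∈ Submodule.span F {x | ∃ i, i < n ∧ (x = e i ∨ x = f i)} ⊔ LinearMap.range φ)
    (vs : List (κ → F)) (hodd : Odd vs.length) (hvs : ∀ v ∈ vs, Q0 v ≠ 0) (c : κ → F) {t : ℕ}
    (ht : polar ⇑Q0 c ((reflList Q0 vs)^[t] c) ≠ 0) (hD : (t + n).Coprime (2 * n))
    (hspan : ∀ a : κ → F, a ∈ Submodule.span F (Set.range (fun k : ℕ => (reflList Q0 vs)^[k] c))) :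
    ∃ g h : IsoGrp Q, Subgroup.closure ({g, h} : Set (IsoGrp Q)) = Omega F ⇑Q := by
  have hpol : ∀ a a', polar ⇑Q (φ a) (φ a') = polar ⇑Q0 a a' := fun a a' => by
    simp only [polar, ← map_add, hφ]
  have hstep : ∀ (ws : List (κ → F)) (x : κ → F), reflList Q (ws.map φ) (φ x) = φ (reflList Q0 ws x) := by
    intro ws x
    induction ws with
    | nil => rfl
    | cons v ws ih =>
      simp only [reflList, List.map_cons, List.foldr_cons] at ih ⊢
      rw [ih, map_sub, map_smul, hpol, hφ]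
  have hiter : ∀ k, (reflList Q (vs.map φ))^[k] (φ c) = φ ((reflList Q0 vs)^[k] c) := fun k => by
    induction k with
    | zero => rfl
    | succ k ih => rw [Function.iterate_succ_apply', Function.iterate_succ_apply', ih, hstep]
  refine hF.exists_two_gen hG h5 hn (vs.map φ) (by rwa [List.length_map])
    (fun v hv => by obtain ⟨a, ha, rfl⟩ := List.mem_map.1 hv; rw [hφ]; exact hvs a ha)
    (fun v hv => by obtain ⟨a, -, rfl⟩ := List.mem_map.1 hv; exact hoff a) (φ c) (hoff c) (t := t)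
    (by rw [hiter, hpol]; exact ht) hD fun w => ?_
  refine SetLike.le_def.1 (sup_le ?_ ?_) (hV w)
  · exact Submodule.span_mono Set.subset_union_left
  · rintro _ ⟨a, rfl⟩
    have h := Submodule.mem_map_of_mem (f := φ) (hspan a)
    rw [Submodule.map_span] at h
    refine Submodule.span_mono ?_ h
    rintro _ ⟨_, ⟨k, rfl⟩, rfl⟩
    exact .inr ⟨k, hiter k⟩

theorem pomega_two_gen {g h : IsoGrp Q} (hgen : Subgroup.closure ({g, h} : Set (IsoGrp Q)) = Omega F ⇑Q) :
    ∃ a b : POmega F ⇑Q, Subgroup.closure ({a, b} : Set (POmega F ⇑Q)) = ⊤ := by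
  have hg : g ∈ Omega F ⇑Q := hgen ▸ Subgroup.subset_closure (by simp)
  have hh : h ∈ Omega F ⇑Q := hgen ▸ Subgroup.subset_closure (by simp)
  have htop : Subgroup.closure ({⟨g, hg⟩, ⟨h, hh⟩} : Set (Omega F ⇑Q)) = ⊤ := by
    refine Subgroup.map_injective (Omega F ⇑Q).subtype_injective ?_
    rw [MonoidHom.map_closure, Set.image_pair, ← MonoidHom.range_eq_map, Subgroup.range_subtype]
    exact hgen
  set q : Omega F ⇑Q →* POmega F ⇑Q := QuotientGroup.mk' (Subgroup.center (Omega F ⇑Q))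
  refine ⟨q ⟨g, hg⟩, q ⟨h, hh⟩, ?_⟩
  rw [← Set.image_pair, ← MonoidHom.map_closure, htop,
    Subgroup.map_top_of_surjective q (QuotientGroup.mk'_surjective _)]

end Cfsg.Agent.OrthTwoGen
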