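import Cfsg.Agent.Lib.Orth.Parabolic

/-!
# Two generators of `Ω`: the generation argument

* `eich_swap`, `eich_conj_cross`, `eich_vec_add` : identities between Eichler transformations
* `Cycle Q n b u` : the orbit of a singular vector is a negative cycle of length `n`
* `Cycle.exists_two_gen` : `Ω = ⟨h * eich u c, b⟩`
-/

set_option autoImplicit false
set_option linter.unusedSectionVars false

namespace Cfsg.Agent.OrthTwoGen

open Cfsg Matrix Module Cfsg.Agent.Orth
open QuadraticMap (polar)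

variable {ι : Type} [Fintype ι] [DecidableEq ι] {F : Type*} [Field F]
variable {Q : QuadraticForm F (ι → F)}

theorem eich_swap {u w : ι → F} (hu : Q u = 0) (hw : Q w = 0) (h : polar ⇑Q u w = 0) :
    eich Q w u = eich Q u (-w) := by
  refine ext_ap fun x => ?_
  rw [eich_ap hw (by rw [pl_comm (Q := Q), h]), eich_ap hu (by rw [pl_neg_right, h, neg_zero]),
    QuadraticMap.map_neg, hu, hw, pl_neg_left]
  module

theorem eich_conj_cross {u c v d : ι → F} (hu : Q u = 0) (huc : polar ⇑Q u c = 0) (huv : polar ⇑Q u v = 0)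
    (hcv : polar ⇑Q c v = 0) (hud : polar ⇑Q u d = 0) (hv : Q v = 0) (hvd : polar ⇑Q v d = 0) :
    eich Q u c * eich Q v d * (eich Q u c)⁻¹ = eich Q v d * eich Q v ((-polar ⇑Q c d) • u) := by
  rw [conj_eich, eich_add hv hvd (by rw [pl_smul_right, pl_comm (Q := Q) v u, huv, mul_zero])]
  congr 1
  · rw [eich_ap hu huc, huv, hcv]; module
  · rw [eich_ap hu huc, hud]; module

theorem eich_vec_add {u v d : ι → F} (hu : Q u = 0) (hv : Q v = 0) (huv : polar ⇑Q u v = 0)
    (hud : polar ⇑Q u d = 0) (hvd : polar ⇑Q v d = 0) :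
    eich Q (u + v) d = eich Q u d * eich Q v d * eich Q u ((-Q d) • v) := by
  have hdu : polar ⇑Q d u = 0 := by rw [pl_comm (Q := Q), hud]
  have hdv : polar ⇑Q d v = 0 := by rw [pl_comm (Q := Q), hvd]
  have hvu : polar ⇑Q v u = 0 := by rw [pl_comm (Q := Q), huv]
  refine ext_ap fun x => ?_
  rw [ap_mul, ap_mul, eich_ap (w := (-Q d) • v) hu (by rw [pl_smul_right, huv, mul_zero]), eich_ap hv hvd, eich_ap hu hud,
    eich_ap (by rw [Q_add, hu, hv, huv]; ring) (by rw [pl_add_left, hud, hvd]; ring)]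
  simp only [Q_smul, hv, mul_zero, zero_mul, pl_add_left, pl_add_right, pl_sub_right, pl_smul_left,
    pl_smul_right, huv, hvu, hud, hvd, hdu, hdv, pl_self, hu]
  module

/-- An isometry fixing `e` and the orthogonal of the pair is trivial. -/
theorem eq_one_of_fix {e f : ι → F} (h : HPair Q e f) (hQ : Q.polarBilin.Nondegenerate) {g : IsoGrp Q}
    (he : ap g e = e) (hW : ∀ w ∈ perp Q e f, ap g w = w) : g = 1 := by
  set y := ap g f with hy
  have hey : polar ⇑Q e y = 1 := by rw [← he, hy, polar_ap, h.pf]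
  have hperp : ∀ w ∈ perp Q e f, polar ⇑Q w y = 0 := fun w hw => by
    rw [← hW w hw, hy, polar_ap, pl_comm (Q := Q)]
    exact (mem_perp.1 hw).2
  have hw0 : wPart Q e f y = 0 := by
    by_contra hne
    obtain ⟨z, hz, hz'⟩ := h.perp_nondeg hQ (h.wPart_mem y) hne
    obtain ⟨h1, h2⟩ := mem_perp.1 hz
    refine hz' ?_
    rw [wPart, pl_sub_left, pl_sub_left, pl_smul_left, pl_smul_left, h1, h2, pl_comm (Q := Q) y z, hperp z hz]
    ring
  have hdec : y = polar ⇑Q f y • e + f := by
    have h' := decomp (Q := Q) e f y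
    rwa [hw0, add_zero, hey, one_smul] at h'
  have hα : polar ⇑Q f y = 0 := by
    have h' : Q y = 0 := by rw [hy, Q_ap, h.qf]
    rw [hdec, Q_add, Q_smul, h.qe, h.qf, pl_smul_left, h.pf] at h'
    linear_combination h'
  refine ext_ap fun x => ?_
  rw [ap_one, decomp (Q := Q) e f x, map_add, map_add, map_smul, map_smul, he, hW _ (h.wPart_mem x),
    ← hy, hdec, hα, zero_smul, zero_add]

/-- The orbit of a singular vector is a negative cycle of length `n`. -/
structure Cycle (Q : QuadraticForm F (ι → F)) (n : ℕ) (b : IsoGrp Q) (u : ι → F) : Prop where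
  two_le : 2 ≤ n
  sing : Q u = 0
  orth : ∀ k, k < 2 * n → k ≠ n → polar ⇑Q u (ap (b ^ k) u) = 0
  opp : polar ⇑Q u (ap (b ^ n) u) ≠ 0
  period : ∃ s : F, s ≠ 0 ∧ ap (b ^ (2 * n)) u = s • u

/-- The vector with a given index. -/
def cyc (n : ℕ) [NeZero (2 * n)] (b : IsoGrp Q) (u : ι → F) (z : ZMod (2 * n)) : ι → F :=
  ap (b ^ z.val) u

section Orbit

variable {n : ℕ} [NeZero (2 * n)] {b : IsoGrp Q} {u : ι → F}

theorem cyc_zero : cyc n b u 0 = u := by rw [cyc, ZMod.val_zero, pow_zero, ap_one]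

theorem Cycle.sing_cyc (hc : Cycle Q n b u) (z : ZMod (2 * n)) : Q (cyc n b u z) = 0 := by
  rw [cyc, Q_ap, hc.sing]

theorem Cycle.pow_cyc (hc : Cycle Q n b u) (k : ℕ) :
    ∃ s : F, s ≠ 0 ∧ ap (b ^ k) u = s • cyc n b u (k : ZMod (2 * n)) := by
  obtain ⟨s, hs, hper⟩ := hc.period
  have key : ∀ q r : ℕ, ∃ s' : F, s' ≠ 0 ∧ ap (b ^ (r + 2 * n * q)) u = s' • ap (b ^ r) u := by
    intro q
    induction q with
    | zero => exact fun r => ⟨1, one_ne_zero, by rw [one_smul, mul_zero, add_zero]⟩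
    | succ q ih =>
      intro r
      obtain ⟨s', hs', h⟩ := ih r
      refine ⟨s * s', mul_ne_zero hs hs', ?_⟩
      rw [show r + 2 * n * (q + 1) = r + 2 * n * q + 2 * n by ring, pow_add, ap_mul, hper, map_smul, h,
        smul_smul]
  obtain ⟨s', hs', h⟩ := key (k / (2 * n)) (k % (2 * n))
  rw [Nat.mod_add_div] at h
  exact ⟨s', hs', by rw [h, cyc, ZMod.val_natCast]⟩

theorem Cycle.map_cyc (hc : Cycle Q n b u) (k : ℕ) (z : ZMod (2 * n)) :
    ∃ s : F, s ≠ 0 ∧ ap (b ^ k) (cyc n b u z) = s • cyc n b u (z + k) := by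
  obtain ⟨s, hs, h⟩ := hc.pow_cyc (k + z.val)
  refine ⟨s, hs, ?_⟩
  rw [Nat.cast_add, ZMod.natCast_zmod_val, add_comm (k : ZMod (2 * n)) z] at h
  rw [cyc, ← ap_mul, ← pow_add]
  exact h

theorem val_n (hc : Cycle Q n b u) : ((n : ZMod (2 * n))).val = n :=
  ZMod.val_natCast_of_lt (by have := hc.two_le; omega)

theorem Cycle.polar_zero (hc : Cycle Q n b u) {z : ZMod (2 * n)} (hz : z ≠ n) :
    polar ⇑Q u (cyc n b u z) = 0 :=
  hc.orth _ (ZMod.val_lt z) fun e => hz (ZMod.val_injective _ (by rw [e, val_n hc]))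

theorem Cycle.polar_cyc (hc : Cycle Q n b u) {x y : ZMod (2 * n)} (h : y ≠ x + n) :
    polar ⇑Q (cyc n b u x) (cyc n b u y) = 0 := by
  obtain ⟨s, hs, h1⟩ := hc.map_cyc (-x).val x
  obtain ⟨s', hs', h2⟩ := hc.map_cyc (-x).val y
  rw [ZMod.natCast_zmod_val, add_neg_cancel, cyc_zero] at h1
  rw [ZMod.natCast_zmod_val] at h2
  rw [← polar_ap (b ^ (-x).val), h1, h2, pl_smul_left, pl_smul_right,
    hc.polar_zero (fun e => h (by linear_combination e)), mul_zero, mul_zero]

theorem Cycle.polar_cyc_ne (hc : Cycle Q n b u) (x : ZMod (2 * n)) :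
    polar ⇑Q (cyc n b u x) (cyc n b u (x + n)) ≠ 0 := by
  obtain ⟨s, hs, h1⟩ := hc.map_cyc (-x).val x
  obtain ⟨s', hs', h2⟩ := hc.map_cyc (-x).val (x + n)
  rw [ZMod.natCast_zmod_val, add_neg_cancel, cyc_zero] at h1
  rw [ZMod.natCast_zmod_val, add_neg_cancel_comm] at h2
  rw [← polar_ap (b ^ (-x).val), h1, h2, pl_smul_left, pl_smul_right]
  refine mul_ne_zero hs (mul_ne_zero hs' ?_)
  rw [cyc, val_n hc]
  exact hc.opp

theorem mul_unit_n (hc : Cycle Q n b u) {x : ZMod (2 * n)} (hx : IsUnit x) : (n : ZMod (2 * n)) * x = n := by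
  rw [← ZMod.natCast_zmod_val x, ZMod.isUnit_iff_coprime] at hx
  rcases Nat.even_or_odd' x.val with ⟨k, hk | hk⟩
  · exfalso
    rw [hk] at hx
    have := Nat.dvd_gcd (dvd_mul_right 2 k) (dvd_mul_right 2 n)
    rw [Nat.coprime_iff_gcd_eq_one.1 hx] at this
    omega
  · rw [← ZMod.natCast_zmod_val x, hk, Nat.cast_add, Nat.cast_mul, Nat.cast_one, mul_add, mul_one,
      ← mul_assoc, mul_comm (n : ZMod (2 * n)), ← Nat.cast_mul, ZMod.natCast_self, zero_mul, zero_add]

end Orbit

/-- `w` is orthogonal to `v` and its Eichler transformation lies in `K`. -/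
def InL (K : Subgroup (IsoGrp Q)) (v w : ι → F) : Prop := polar ⇑Q v w = 0 ∧ eich Q v w ∈ K

theorem InL.swap {K : Subgroup (IsoGrp Q)} {v w : ι → F} (hv : Q v = 0) (hw : Q w = 0) (h : InL K v w) :
    InL K w v := by
  refine ⟨by rw [pl_comm (Q := Q)]; exact h.1, ?_⟩
  rw [eich_swap hv hw h.1, ← eich_inv]
  exact inv_mem h.2

theorem InL.conj {K : Subgroup (IsoGrp Q)} {v w : ι → F} {g : IsoGrp Q} (hg : g ∈ K) (h : InL K v w) :
    InL K (ap g v) (ap g w) :=
  ⟨by rw [polar_ap]; exact h.1, by rw [← conj_eich]; exact mul_mem (mul_mem hg h.2) (inv_mem hg)⟩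

theorem InL.of_smul_left {K : Subgroup (IsoGrp Q)} {v w : ι → F} {s : F} (hs : s ≠ 0) (h : InL K (s • v) w) :
    InL K v (s • w) := by
  refine ⟨?_, by rw [← eich_smul_left]; exact h.2⟩
  have h1 := h.1
  rw [pl_smul_left] at h1
  rw [pl_smul_right, h1]

variable [Fintype F]

theorem exists_add_sq (c : F) : ∃ x y : F, x * x + y * y = c := by
  by_cases h2 : (2 : F) = 0
  · obtain ⟨x, hx⟩ := FiniteField.isSquare_of_char_two
      (CharP.ringChar_of_prime_eq_zero Nat.prime_two (by exact_mod_cast h2)) c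
    exact ⟨x, 0, by rw [hx]; ring⟩
  · obtain ⟨x, y, h⟩ := FiniteField.exists_root_sum_quadratic (f := (Polynomial.X ^ 2 : Polynomial F))
      (g := Polynomial.X ^ 2 - Polynomial.C c) (Polynomial.degree_X_pow 2)
      (Polynomial.degree_X_pow_sub_C two_pos c) (FiniteField.odd_card_of_char_ne_two (fun h => h2 (by
        have := CharP.cast_eq_zero F (ringChar F)
        rw [h] at this; exact_mod_cast this)))
    simp only [Polynomial.eval_pow, Polynomial.eval_X, Polynomial.eval_sub, Polynomial.eval_C] at h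
    exact ⟨x, y, by linear_combination h⟩

theorem mul_self_mem_omega (hG : Good Q) (g : IsoGrp Q) : g * g ∈ Omega F ⇑Q := by
  refine (mem_omega_iff hG _).2 ⟨?_, ?_⟩
  · rw [dick_mul hG]; rcases dick_eq_or g with e | e <;> rw [e] <;> norm_num
  · rw [spin_mul hG]; rcases spin_eq_or hG g with e | e <;> rw [e] <;> norm_num

/-- `Ω` is generated by a torus element times a root element, and the cycle. -/
theorem Cycle.exists_two_gen (hG : Good Q) (h5 : 5 ≤ Fintype.card ι) {n : ℕ} [NeZero (2 * n)] {b : IsoGrp Q}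
    (hb : b ∈ Omega F ⇑Q) {u c : ι → F} (hc : Cycle Q n b u) (hcU : ∀ k, polar ⇑Q (ap (b ^ k) u) c = 0)
    {t : ℕ} (ht : polar ⇑Q c (ap (b ^ t) c) ≠ 0) (hD : IsUnit ((t + n : ℕ) : ZMod (2 * n)))
    (hspan : ∀ w : ι → F, w ∈ Submodule.span F
      (Set.range (fun k : ℕ => ap (b ^ k) u) ∪ Set.range (fun k : ℕ => ap (b ^ k) c))) :
    ∃ g h : IsoGrp Q, Subgroup.closure ({g, h} : Set (IsoGrp Q)) = Omega F ⇑Q := by
  classical
  set U := cyc n b u with hUdef
  have hn2 : (1 : ZMod (2 * n)) ≠ n := fun e => by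
    have := congrArg ZMod.val e
    rw [val_n hc, ← Nat.cast_one, ZMod.val_natCast_of_lt (by have := hc.two_le; omega)] at this
    have := hc.two_le
    omega
  have hn0 : (n : ZMod (2 * n)) ≠ 0 := fun e => by
    have := congrArg ZMod.val e
    rw [val_n hc, ZMod.val_zero] at this
    have := hc.two_le
    omega
  have hnn : (n : ZMod (2 * n)) + n = 0 := by
    rw [← Nat.cast_add, ← two_mul, ZMod.natCast_self]
  have huc : polar ⇑Q u c = 0 := by simpa using hcU 0
  -- the pair and the torus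
  set f := (polar ⇑Q u (ap (b ^ n) u))⁻¹ • ap (b ^ n) u with hf
  have hp : HPair Q u f := ⟨hc.sing, by rw [hf, Q_smul, Q_ap, hc.sing, mul_zero],
    by rw [hf, pl_smul_right, inv_mul_cancel₀ hc.opp]⟩
  obtain ⟨ζ, hζ⟩ := IsCyclic.exists_monoid_generator (α := Fˣ)
  set h0 := torus Q u f (ζ : F) * torus Q u f (ζ : F) with hh0
  have h0u : ap h0 u = ((ζ : F) * ζ) • u := by
    rw [hh0, ap_mul, hp.torus_ap_left ζ.ne_zero, map_smul, hp.torus_ap_left ζ.ne_zero, smul_smul]
  have h0W : ∀ w ∈ perp Q u f, ap h0 w = w := fun w hw => by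
    rw [hh0, ap_mul, HPair.torus_ap_perp hw, HPair.torus_ap_perp hw]
  set h1 := b * h0 * b⁻¹ with hh1
  set X := eich Q u c with hX
  have hperp1 : ∀ w, polar ⇑Q (ap b u) w = 0 → polar ⇑Q (ap b f) w = 0 → ap h1 w = w := fun w e1 e2 => by
    rw [hh1, ap_mul, ap_mul, h0W, ap_ap_inv]
    refine mem_perp.2 ⟨?_, ?_⟩
    · rw [← polar_ap b, ap_ap_inv]; exact e1
    · rw [← polar_ap b, ap_ap_inv]; exact e2
  have hbu : ∀ w, polar ⇑Q (ap b f) w = (polar ⇑Q u (ap (b ^ n) u))⁻¹ * polar ⇑Q (ap (b ^ (n + 1)) u) w :=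
    fun w => by rw [hf, map_smul, pl_smul_left, pow_succ', ap_mul]
  have h1u : ap h1 u = u := hperp1 u (by
      rw [pl_comm (Q := Q)]; simpa using hc.orth 1 (by have := hc.two_le; omega) (by have := hc.two_le; omega))
    (by rw [hbu, pl_comm (Q := Q) _ u, hc.orth (n + 1) (by have := hc.two_le; omega) (by omega), mul_zero])
  have h1c : ap h1 c = c := hperp1 c (by simpa using hcU 1) (by rw [hbu, hcU, mul_zero])
  set a := h1 * X with ha
  set K := Subgroup.closure ({a, b} : Set (IsoGrp Q)) with hK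
  have haK : a ∈ K := Subgroup.subset_closure (by simp)
  have hbK : b ∈ K := Subgroup.subset_closure (by simp)
  have hh0pow : h0 ^ (Fintype.card F - 1) = 1 := by
    have hk : ∀ k : ℕ, ap (h0 ^ k) u = (((ζ : F) * ζ) ^ k) • u ∧ ∀ w ∈ perp Q u f, ap (h0 ^ k) w = w := by
      intro k
      induction k with
      | zero => simp
      | succ k ih =>
        refine ⟨by rw [pow_succ, ap_mul, h0u, map_smul, ih.1, smul_smul, pow_succ, mul_comm], fun w hw => ?_⟩
        rw [pow_succ, ap_mul, h0W w hw, ih.2 w hw]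
    refine eq_one_of_fix hp hG.nd ?_ (hk _).2
    rw [(hk _).1, mul_pow, FiniteField.pow_card_sub_one_eq_one _ ζ.ne_zero, one_mul, one_smul]
  have hh1K : h1 ∈ K := by
    have hXN : X ^ Fintype.card F = 1 := by
      have hk : ∀ k : ℕ, X ^ k = eich Q u ((k : F) • c) := by
        intro k
        induction k with
        | zero => rw [pow_zero, Nat.cast_zero, zero_smul, eich_zero]
        | succ k ih =>
          rw [pow_succ, ih, hX, eich_add hc.sing (by rw [pl_smul_right, huc, mul_zero]) huc, Nat.cast_succ,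
            add_smul, one_smul]
      rw [hk, FiniteField.cast_card_eq_zero, zero_smul, eich_zero]
    have hcomm : Commute h1 X := by
      show h1 * X = X * h1
      rw [hX, mul_eich, h1u, h1c]
    have hN : h1 ^ Fintype.card F = h1 := by
      conv_lhs => rw [← Nat.sub_add_cancel (Fintype.card_pos (α := F)), pow_succ]
      rw [hh1, conj_pow, hh0pow, mul_one, mul_inv_cancel, one_mul]
    have := pow_mem haK (Fintype.card F)
    rwa [ha, hcomm.mul_pow, hN, hXN, mul_one] at this
  have hXK : X ∈ K := by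
    have := mul_mem (inv_mem hh1K) haK
    rwa [ha, inv_mul_cancel_left] at this
  have hh0K : h0 ∈ K := by
    have := mul_mem (mul_mem (inv_mem hbK) hh1K) hbK
    rwa [hh1, show b⁻¹ * (b * h0 * b⁻¹) * b = h0 by group] at this
  -- scalars
  have hsmul : ∀ (z : ZMod (2 * n)) (w : ι → F) (s : F), InL K (U z) w → InL K (U z) (s • w) := by
    intro z w s hw
    have hz : Q (U z) = 0 := hc.sing_cyc z
    set g := b ^ z.val
    have hU : U z = ap g u := rfl
    have hpg := hp.map g
    set w' := wPart Q (ap g u) (ap g f) w with hw'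
    have hdec : w = polar ⇑Q (ap g f) w • U z + w' := by
      have h := decomp (Q := Q) (ap g u) (ap g f) w
      rwa [← hU, hw.1, zero_smul, add_zero] at h
    have hw'0 : polar ⇑Q (U z) w' = 0 := by rw [hU]; exact (mem_perp.1 (hpg.wPart_mem w)).1
    have hrw : ∀ x : F, eich Q (U z) (x • w) = eich Q (U z) (x • w') := fun x => by
      conv_lhs => rw [hdec, smul_add, smul_smul, add_comm]
      exact eich_add_smul_self hz (by rw [pl_smul_right, hw'0, mul_zero]) _
    have hgh : g * h0 * g⁻¹ ∈ K :=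
      mul_mem (mul_mem (pow_mem hbK _) hh0K) (inv_mem (pow_mem hbK _))
    have hstep : ∀ x : F, eich Q (U z) (x • w) ∈ K → eich Q (U z) (((ζ : F) * ζ * x) • w) ∈ K := by
      intro x hx
      rw [hrw] at hx ⊢
      have h := mul_mem (mul_mem hgh hx) (inv_mem hgh)
      have e1 : ap (g * h0 * g⁻¹) (U z) = ((ζ : F) * ζ) • U z := by
        rw [hU, ap_mul, ap_mul, ap_inv_ap, h0u, map_smul]
      have e2 : ap (g * h0 * g⁻¹) (x • w') = x • w' := by
        rw [map_smul, ap_mul, ap_mul, h0W, ap_ap_inv]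
        obtain ⟨p1, p2⟩ := mem_perp.1 (hpg.wPart_mem w)
        exact mem_perp.2 ⟨by rw [← polar_ap g, ap_ap_inv]; exact p1, by rw [← polar_ap g, ap_ap_inv]; exact p2⟩
      rwa [conj_eich, e1, e2, eich_smul_left, smul_smul] at h
    have hsq : ∀ x : F, eich Q (U z) ((x * x) • w) ∈ K := by
      intro x
      by_cases hx : x = 0
      · rw [hx, mul_zero, zero_smul, eich_zero]; exact one_mem K
      obtain ⟨k, hk⟩ := Submonoid.mem_powers_iff _ _ |>.1 (hζ (Units.mk0 x hx))
      have hxk : x = (ζ : F) ^ k := by rw [← Units.val_pow_eq_pow_val, hk, Units.val_mk0]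
      subst hxk
      clear hk hx
      induction k with
      | zero => simpa using hw.2
      | succ k ih =>
        have := hstep _ ih
        rwa [show (ζ : F) * ζ * ((ζ : F) ^ k * (ζ : F) ^ k) = (ζ : F) ^ (k + 1) * (ζ : F) ^ (k + 1) by ring]
          at this
    obtain ⟨x, y, rfl⟩ := exists_add_sq s
    refine ⟨by rw [pl_smul_right, hw.1, mul_zero], ?_⟩
    rw [add_smul, ← eich_add hz (by rw [pl_smul_right, hw.1, mul_zero]) (by rw [pl_smul_right, hw.1, mul_zero])]
    exact mul_mem (hsq x) (hsq y)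
  have hadd : ∀ (z : ZMod (2 * n)) (w w' : ι → F), InL K (U z) w → InL K (U z) w' → InL K (U z) (w + w') :=
    fun z w w' h h' => ⟨by rw [pl_add_right, h.1, h'.1, add_zero], by
      rw [← eich_add (hc.sing_cyc z) h.1 h'.1]; exact mul_mem h.2 h'.2⟩
  have hunscale : ∀ (z : ZMod (2 * n)) (w : ι → F) (s : F), s ≠ 0 → InL K (U z) (s • w) → InL K (U z) w :=
    fun z w s hs h => by simpa [smul_smul, inv_mul_cancel₀ hs] using hsmul z _ s⁻¹ h
  have hu0 : U 0 = u := cyc_zero
  have hswap : ∀ x y, InL K (U x) (U y) → InL K (U y) (U x) :=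
    fun x y h => h.swap (hc.sing_cyc x) (hc.sing_cyc y)
  have hshift : ∀ x y d : ZMod (2 * n), InL K (U x) (U y) → InL K (U (x + d)) (U (y + d)) := by
    intro x y d h
    obtain ⟨s, hs, e1⟩ := hc.map_cyc d.val x
    obtain ⟨s', hs', e2⟩ := hc.map_cyc d.val y
    rw [ZMod.natCast_zmod_val] at e1 e2
    have h' := h.conj (pow_mem hbK d.val)
    rw [hUdef, e1, e2, ← hUdef] at h'
    have h'' := h'.of_smul_left hs
    rw [smul_smul] at h''
    exact hunscale _ _ _ (mul_ne_zero hs hs') h''
  -- the first commutator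
  have hck : ∀ k : ℕ, ∀ z, polar ⇑Q (U z) (ap (b ^ k) c) = 0 := by
    intro k z
    obtain ⟨s, hs, e⟩ := hc.map_cyc k (z - k)
    rw [sub_add_cancel] at e
    have h : polar ⇑Q (ap (b ^ k) (U (z - k))) (ap (b ^ k) c) = 0 := by
      rw [polar_ap, hUdef, cyc]; exact hcU _
    rw [hUdef, e, pl_smul_left] at h
    exact (mul_eq_zero.1 h).resolve_left hs
  have hcL : ∀ k : ℕ, InL K (U k) (ap (b ^ k) c) := by
    intro k
    obtain ⟨s, hs, e⟩ := hc.pow_cyc k
    have h := (show InL K u c from ⟨huc, hXK⟩).conj (pow_mem hbK k)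
    rw [e] at h
    exact hunscale _ _ _ hs (h.of_smul_left hs)
  set D0 : ZMod (2 * n) := ((t + n : ℕ) : ZMod (2 * n)) with hD0
  have htn : ((t : ℕ) : ZMod (2 * n)) ≠ n := fun e => by
    rw [Nat.cast_add, e, hnn] at hD0
    rw [hD0] at hD
    exact hn0 (by simpa using mul_unit_n hc hD |>.symm)
  have hR1 : InL K u (U t) := by
    have h0c : InL K u c := ⟨huc, hXK⟩
    have hvt := hcL t
    have e1 : polar ⇑Q u (U t) = 0 := hc.polar_zero htn
    have e2 : polar ⇑Q c (U t) = 0 := by rw [pl_comm (Q := Q)]; simpa using hck 0 t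
    have e3 : polar ⇑Q u (ap (b ^ t) c) = 0 := by rw [← hu0]; exact hck t 0
    have h := eich_conj_cross hc.sing huc e1 e2 e3 (hc.sing_cyc _) hvt.1
    have hmem : eich Q (U t) ((-polar ⇑Q c (ap (b ^ t) c)) • u) ∈ K := by
      have := mul_mem (inv_mem hvt.2) (mul_mem (mul_mem h0c.2 hvt.2) (inv_mem h0c.2))
      rwa [h, inv_mul_cancel_left] at this
    have h' : InL K (U t) ((-polar ⇑Q c (ap (b ^ t) c)) • u) :=
      ⟨by rw [pl_smul_right, pl_comm (Q := Q) (U t) u, e1, mul_zero], hmem⟩
    have h'' := (hunscale _ _ _ (neg_ne_zero.2 ht) h')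
    rw [← hu0] at h'' ⊢
    exact hswap _ _ h''
  -- more orbit vectors
  have hneg : ∀ d, InL K u (U d) → InL K u (U (-d)) := by
    intro d h
    rw [← hu0] at h ⊢
    have h' := hshift _ _ (-d) h
    rw [zero_add, add_neg_cancel] at h'
    exact hswap _ _ h'
  have hrule : ∀ d e, InL K u (U d) → InL K u (U e) → d ≠ 0 → e ≠ 0 → d ≠ e → InL K u (U (d - e + n)) := by
    intro d e hd he hd0 he0 hde
    rw [← hu0] at hd he ⊢
    set l := d - e + (n : ZMod (2 * n)) with hl
    have hle := hshift _ _ l he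
    rw [zero_add, show e + l = d + n by rw [hl]; ring] at hle
    have e1 : polar ⇑Q (U 0) (U l) = 0 := hc.polar_cyc fun h => hde (by
      rw [zero_add] at h; linear_combination h)
    have e2 : polar ⇑Q (U d) (U l) = 0 := hc.polar_cyc fun h => he0 (by linear_combination -h)
    have e3 : polar ⇑Q (U 0) (U (d + n)) = 0 := hc.polar_cyc fun h => hd0 (by
      rw [zero_add] at h; linear_combination h)
    have h := eich_conj_cross (hc.sing_cyc 0) hd.1 e1 e2 e3 (hc.sing_cyc l) hle.1
    have hmem : eich Q (U l) ((-polar ⇑Q (U d) (U (d + n))) • U 0) ∈ K := by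
      have := mul_mem (inv_mem hle.2) (mul_mem (mul_mem hd.2 hle.2) (inv_mem hd.2))
      rwa [h, inv_mul_cancel_left] at this
    have h' : InL K (U l) ((-polar ⇑Q (U d) (U (d + n))) • U 0) :=
      ⟨by rw [pl_smul_right, pl_comm (Q := Q) (U l) (U 0), e1, mul_zero], hmem⟩
    exact hswap _ _ (hunscale _ _ _ (neg_ne_zero.2 (hc.polar_cyc_ne d)) h')
  have hcancel : ∀ j : ℕ, j < 2 * n → (j : ZMod (2 * n)) * D0 = n → j = n := fun j hj e => by
    rw [← mul_unit_n hc hD] at e
    have := congrArg ZMod.val (hD.mul_right_cancel e)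
    rwa [val_n hc, ZMod.val_natCast_of_lt hj] at this
  have hmult : ∀ j : ℕ, 1 ≤ j → j < n → InL K u (U ((j : ZMod (2 * n)) * D0 + n)) := by
    have hbase : InL K u (U (D0 + n)) := by
      rwa [hD0, Nat.cast_add, add_assoc, hnn, add_zero]
    intro j
    induction j with
    | zero => intro h; omega
    | succ j ih =>
      intro _ hj
      rcases Nat.eq_zero_or_pos j with rfl | hj0
      · simpa using hbase
      · have h1 := ih hj0 (by omega)
        have h2 : InL K u (U (-D0 + n)) := by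
          have := hneg _ hbase
          rwa [show -(D0 + (n : ZMod (2 * n))) = -D0 + n by linear_combination -hnn] at this
        have hd0 : (j : ZMod (2 * n)) * D0 + n ≠ 0 := fun e => by
          have := hcancel j (by omega) (by linear_combination e - hnn)
          omega
        have he0 : -D0 + (n : ZMod (2 * n)) ≠ 0 := fun e => by
          have := hcancel 1 (by omega) (by rw [Nat.cast_one, one_mul]; linear_combination -e)
          omega
        have hde : (j : ZMod (2 * n)) * D0 + n ≠ -D0 + n := fun e => by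
          have e' : ((j + 1 : ℕ) : ZMod (2 * n)) * D0 = 0 * D0 := by push_cast; linear_combination e
          have := congrArg ZMod.val (hD.mul_right_cancel e')
          rw [ZMod.val_natCast_of_lt (by omega), ZMod.val_zero] at this
          omega
        have := hrule _ _ h1 h2 hd0 he0 hde
        rwa [show (j : ZMod (2 * n)) * D0 + n - (-D0 + n) + n = ((j + 1 : ℕ) : ZMod (2 * n)) * D0 + n by
          push_cast; ring] at this
  have hall : ∀ x y : ZMod (2 * n), y ≠ x + n → InL K (U x) (U y) := by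
    have h0 : ∀ z : ZMod (2 * n), z ≠ n → InL K (U 0) (U z) := by
      intro z hz
      by_cases hz0 : z = 0
      · subst hz0
        have hp0 : polar ⇑Q u u = 0 := by rw [pl_self, hc.sing, mul_zero]
        rw [hu0]
        refine ⟨hp0, ?_⟩
        have h := eich_add_smul_self hc.sing (pl_zero_right Q u) (1 : F)
        rw [zero_add, one_smul, eich_zero] at h
        rw [h]; exact one_mem K
      obtain ⟨v, hv⟩ := hD
      set j := ((z + n) * ((v⁻¹ : (ZMod (2 * n))ˣ) : ZMod (2 * n))).val with hjdef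
      have hj : (j : ZMod (2 * n)) * D0 = z + n := by
        rw [hjdef, ZMod.natCast_zmod_val, ← hv, mul_assoc, Units.inv_mul, mul_one]
      have hjlt : j < 2 * n := ZMod.val_lt _
      have hj0 : j ≠ 0 := fun e => hz (by
        rw [e, Nat.cast_zero, zero_mul] at hj; linear_combination -hj - hnn)
      have hjn : j ≠ n := fun e => hz0 (by
        rw [e, mul_unit_n hc ⟨v, hv⟩] at hj; linear_combination -hj)
      rw [hu0]
      rcases lt_or_gt_of_ne hjn with h | h
      · have := hmult j (by omega) h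
        rwa [hj, add_assoc, hnn, add_zero] at this
      · have := hneg _ (hmult (2 * n - j) (by omega) (by omega))
        rwa [Nat.cast_sub hjlt.le, ZMod.natCast_self, zero_sub, neg_mul, hj,
          show -(-(z + (n : ZMod (2 * n))) + n) = z by ring] at this
    intro x y h
    have := hshift _ _ x (h0 (y - x) fun e => h (by linear_combination e))
    rwa [zero_add, sub_add_cancel] at this
  -- spreading the vectors `c`
  have hspread : ∀ (x z : ZMod (2 * n)) (k : ℕ), z ≠ x → z ≠ x + n → InL K (U x) (ap (b ^ k) c) →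
      InL K (U z) (ap (b ^ k) c) := by
    intro x z k hzx hzn h
    have hg := hall z (x + n) fun e => hzx (by linear_combination -e)
    have hzx' := hall x z hzn
    set d := ap (b ^ k) c
    have hd : ∀ w, polar ⇑Q (U w) d = 0 := hck k
    have e1 : ap (eich Q (U z) (U (x + n))) (U x) = U x + (-polar ⇑Q (U (x + n)) (U x)) • U z := by
      rw [eich_ap (hc.sing_cyc z) hg.1, hc.sing_cyc, pl_comm (Q := Q) (U z) (U x), hzx'.1]
      module
    have e2 : ap (eich Q (U z) (U (x + n))) d = d := by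
      rw [eich_ap (hc.sing_cyc z) hg.1, hd, hd, hc.sing_cyc]
      module
    have hmem := (h.conj hg.2).2
    rw [e1, e2, eich_vec_add (hc.sing_cyc x) (by rw [Q_smul, hc.sing_cyc, mul_zero])
      (by rw [pl_smul_right, hzx'.1, mul_zero]) (hd x) (by rw [pl_smul_left, hd, mul_zero]),
      mul_assoc, smul_smul] at hmem
    have h3 := (hsmul x _ (-Q d * -polar ⇑Q (U (x + n)) (U x)) hzx').2
    rw [Subgroup.mul_mem_cancel_left _ h.2, Subgroup.mul_mem_cancel_right _ h3, eich_smul_left] at hmem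
    refine hunscale z d _ (neg_ne_zero.2 ?_) ⟨by rw [pl_smul_right, hd, mul_zero], hmem⟩
    rw [pl_comm (Q := Q)]
    exact hc.polar_cyc_ne x
  have hck' : ∀ (k : ℕ) (z : ZMod (2 * n)), InL K (U z) (ap (b ^ k) c) := by
    intro k z
    by_cases hz : z = k
    · subst hz; exact hcL k
    by_cases hz' : z = (k : ZMod (2 * n)) + n
    · have h1 := hspread k (k + 1) k (fun e => hn0 (by
        have e' : (1 : ZMod (2 * n)) = 0 := by linear_combination e
        rw [← mul_one (n : ZMod (2 * n)), e', mul_zero])) (fun e => hn2 (by linear_combination e)) (hcL k)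
      refine hspread _ z k ?_ ?_ h1
      · rw [hz']; exact fun e => hn2 (by linear_combination -e)
      · rw [hz']
        intro e
        have e' : (1 : ZMod (2 * n)) = 0 := by linear_combination -e
        exact hn0 (by rw [← mul_one (n : ZMod (2 * n)), e', mul_zero])
    · exact hspread k z k hz hz' (hcL k)
  -- everything orthogonal
  have hfull : ∀ (z : ZMod (2 * n)) (w : ι → F), polar ⇑Q (U z) w = 0 → InL K (U z) w := by
    intro z
    let L : Submodule F (ι → F) :=
      { carrier := {w | InL K (U z) w}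
        add_mem' := fun h h' => hadd z _ _ h h'
        zero_mem' := ⟨pl_zero_right Q _, by rw [eich_zero]; exact one_mem K⟩
        smul_mem' := fun s w h => hsmul z w s h }
    have htop : ∀ w, w ∈ L ⊔ F ∙ U (z + n) := by
      intro w
      refine Submodule.span_le.2 ?_ (hspan w)
      rintro _ (⟨k, rfl⟩ | ⟨k, rfl⟩)
      · obtain ⟨s, hs, e⟩ := hc.pow_cyc k
        show ap (b ^ k) u ∈ _
        rw [e]
        refine Submodule.smul_mem _ _ ?_
        by_cases hk : (k : ZMod (2 * n)) = z + n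
        · exact Submodule.mem_sup_right (hk ▸ Submodule.mem_span_singleton_self _)
        · exact Submodule.mem_sup_left (hall z k hk)
      · exact Submodule.mem_sup_left (hck' k z)
    intro w hw
    obtain ⟨y, hy, y', hy', rfl⟩ := Submodule.mem_sup.1 (htop w)
    obtain ⟨α, rfl⟩ := Submodule.mem_span_singleton.1 hy'
    have hy'' : InL K (U z) y := hy
    rw [pl_add_right, hy''.1, zero_add, pl_smul_right] at hw
    rw [(mul_eq_zero.1 hw).resolve_right (hc.polar_cyc_ne z), zero_smul, add_zero]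
    exact hy
  refine ⟨a, b, le_antisymm ?_ ?_⟩
  · rw [Subgroup.closure_le, Set.insert_subset_iff, Set.singleton_subset_iff]
    refine ⟨mul_mem ?_ (eichGen_le_omega hG.nd (by omega) (.inr h5) (eich_mem_eichGen u c)), hb⟩
    exact mul_mem (mul_mem hb (mul_self_mem_omega hG _)) (inv_mem hb)
  · rw [omega_eq_eichPair hG (by omega) (.inr h5) hp, eichPair, Subgroup.closure_le]
    rintro _ ⟨w, hw, rfl | rfl⟩
    · have := hfull 0 w (by rw [hu0]; exact (mem_perp.1 hw).1)
      rw [hu0] at this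
      exact this.2
    · have hfU : f = (polar ⇑Q u (ap (b ^ n) u))⁻¹ • U n := by rw [hf, hUdef, cyc, val_n hc]
      rw [hfU, eich_smul_left]
      refine (hfull n _ ?_).2
      have := (mem_perp.1 hw).2
      rw [hfU, pl_smul_left] at this
      rw [pl_smul_right, this]

end Cfsg.Agent.OrthTwoGen
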