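import Cfsg.Agent.Lib.OrthTwoGen.Small

/-!
# Two generators of `PΩ` of the standard forms

* `pomega_plus_two_gen`, `pomega_minus_two_gen`, `pomega_odd_two_gen`
-/

set_option autoImplicit false
set_option linter.unusedSectionVars false

namespace Cfsg.Agent.OrthTwoGen

open Cfsg Matrix Module Cfsg.Agent.Orth
open QuadraticMap (polar)

variable {F : Type*} [Field F] [Fintype F]

/-- A unit vector of the first `n` of `n + l` indices. -/
def headVec {ι : Type} [DecidableEq ι] {n l : ℕ} (inc : Fin (n + l) → ι) (i : ℕ) : ι → F :=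
  if h : i < n then Pi.single (inc (Fin.castAdd l ⟨i, h⟩)) 1 else 0

theorem headVec_of_lt {ι : Type} [DecidableEq ι] {n l : ℕ} (inc : Fin (n + l) → ι) {i : ℕ} (h : i < n) :
    (headVec inc i : ι → F) = Pi.single (inc (Fin.castAdd l ⟨i, h⟩)) 1 := dif_pos h

/-- The last `l` hyperbolic pairs. -/
def tailPlus (n l : ℕ) : (Fin l ⊕ Fin l → F) →ₗ[F] (Fin (n + l) ⊕ Fin (n + l) → F) where
  toFun a := Sum.elim (Fin.append 0 (a ∘ Sum.inl)) (Fin.append 0 (a ∘ Sum.inr))
  map_add' a b := funext fun i => by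
    rcases i with i | i <;> refine Fin.addCases (fun j => ?_) (fun j => ?_) i <;> simp
  map_smul' c a := funext fun i => by
    rcases i with i | i <;> refine Fin.addCases (fun j => ?_) (fun j => ?_) i <;> simp

theorem quadPlus_tail (n l : ℕ) (a : Fin l ⊕ Fin l → F) :
    quadPlus (n + l) F (tailPlus n l a) = quadPlus l F a := by
  rw [coe_quadPlus, coe_quadPlus]
  simp [quadFormPlus, tailPlus, Fin.sum_univ_add]

theorem frame_plus (n l : ℕ) :
    Frame (quadPlus (n + l) F) n (headVec Sum.inl) (headVec (Sum.inr : Fin (n + l) → Fin (n + l) ⊕ Fin (n + l))) := by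
  constructor <;> intros <;>
    simp_all [headVec_of_lt, coe_quadPlus, quadFormPlus, polar_quadPlus, Pi.single_apply, Ne.symm]

theorem off_plus (n l : ℕ) (a : Fin l ⊕ Fin l → F) :
    Off (quadPlus (n + l) F) n (headVec Sum.inl) (headVec Sum.inr) (tailPlus n l a) := fun i hi => by
  simp [headVec_of_lt, hi, coe_quadPlus, polar_quadPlus, tailPlus, Pi.single_apply, Fin.sum_univ_add,
    Fin.ext_iff]
  exact ⟨Finset.sum_eq_zero fun x _ => if_neg (by omega), Finset.sum_eq_zero fun x _ => if_neg (by omega)⟩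

theorem span_plus (n l : ℕ) (w : Fin (n + l) ⊕ Fin (n + l) → F) :
    w ∈ Submodule.span F {x | ∃ i, i < n ∧ (x = headVec Sum.inl i ∨ x = headVec Sum.inr i)} ⊔
      LinearMap.range (tailPlus n l) := by
  rw [pi_eq_sum_univ' w]
  refine Submodule.sum_mem _ fun x _ => Submodule.smul_mem _ _ ?_
  rcases x with x | x <;> refine Fin.addCases (fun j => ?_) (fun j => ?_) x
  · exact Submodule.mem_sup_left (Submodule.subset_span ⟨j, j.2, .inl (by rw [headVec_of_lt _ j.2])⟩)
  · refine Submodule.mem_sup_right ⟨Pi.single (Sum.inl j) 1, funext fun y => ?_⟩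
    rcases y with y | y <;> refine Fin.addCases (fun k => ?_) (fun k => ?_) y <;>
      simp [tailPlus, Pi.single_apply, Fin.ext_iff] <;> omega
  · exact Submodule.mem_sup_left (Submodule.subset_span ⟨j, j.2, .inr (by rw [headVec_of_lt _ j.2])⟩)
  · refine Submodule.mem_sup_right ⟨Pi.single (Sum.inr j) 1, funext fun y => ?_⟩
    rcases y with y | y <;> refine Fin.addCases (fun k => ?_) (fun k => ?_) y <;>
      simp [tailPlus, Pi.single_apply, Fin.ext_iff] <;> omega

theorem coprime_shift {n : ℕ} (hn : 2 ≤ n) : ∃ t, (t = 1 ∨ t = 2) ∧ (t + n).Coprime (2 * n) := by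
  rcases Nat.even_or_odd n with ⟨k, hk⟩ | ⟨k, hk⟩
  · refine ⟨1, .inl rfl, Nat.Coprime.mul_right ?_ ?_⟩
    · exact (Nat.coprime_two_right).2 ⟨k, by omega⟩
    · exact (Nat.coprime_add_self_left).2 (Nat.coprime_one_left n)
  · refine ⟨2, .inr rfl, Nat.Coprime.mul_right ?_ ?_⟩
    · exact (Nat.coprime_two_right).2 ⟨k + 1, by omega⟩
    · exact (Nat.coprime_add_self_left).2 ((Nat.coprime_two_left).2 ⟨k, hk⟩)

theorem plus_two_gen_of {n l : ℕ} (hn : 2 ≤ n) (hl : 1 ≤ l) {t : ℕ} (hD : (t + n).Coprime (2 * n))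
    (hdata : ∃ (vs : List (Fin l ⊕ Fin l → F)) (c : Fin l ⊕ Fin l → F), Odd vs.length ∧
      (∀ v ∈ vs, quadPlus l F v ≠ 0) ∧ polar ⇑(quadPlus l F) c ((reflList (quadPlus l F) vs)^[t] c) ≠ 0 ∧
      ∀ a, a ∈ Submodule.span F (Set.range fun k : ℕ => (reflList (quadPlus l F) vs)^[k] c)) :
    ∃ g h : POmega F (quadFormPlus (n + l) F),
      Subgroup.closure ({g, h} : Set (POmega F (quadFormPlus (n + l) F))) = ⊤ := by
  obtain ⟨vs, c, h1, h2, h3, h4⟩ := hdata
  have hG : Good (quadPlus (n + l) F) := Good.of_card (quadPlus_nondeg _) (.inr (by simp; omega))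
  obtain ⟨g, h, hgen⟩ := (frame_plus n l).exists_two_gen_model hG (by simp; omega) hn (tailPlus n l)
    (quadPlus_tail n l) (off_plus n l) (span_plus n l) vs h1 h2 c h3 hD h4
  exact pomega_two_gen hgen

theorem pomega_plus_two_gen (m : ℕ) (hm : 4 ≤ m) :
    ∃ g h : POmega F (quadFormPlus m F), Subgroup.closure ({g, h} : Set (POmega F (quadFormPlus m F))) = ⊤ := by
  rcases Nat.lt_or_ge m 5 with h | h
  · obtain rfl : m = 2 + 2 := by omega
    exact plus_two_gen_of le_rfl (by norm_num) (t := 3) (by decide) plusFour_data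
  · obtain ⟨n, rfl⟩ : ∃ n, m = n + 3 := ⟨m - 3, by omega⟩
    obtain ⟨t, ht, hD⟩ := coprime_shift (n := n) (by omega)
    exact plus_two_gen_of (by omega) (by norm_num) hD (plusSix_data t ht)

/-- The last `l` hyperbolic pairs and the elliptic plane. -/
def tailMinus (n l : ℕ) :
    ((Fin l ⊕ Fin l) ⊕ Fin 2 → F) →ₗ[F] ((Fin (n + l) ⊕ Fin (n + l)) ⊕ Fin 2 → F) where
  toFun a := Sum.elim (tailPlus n l (a ∘ Sum.inl)) (a ∘ Sum.inr)
  map_add' a b := funext fun i => by rcases i with i | i <;> simp [Pi.add_comp]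
  map_smul' c a := funext fun i => by rcases i with i | i <;> simp [Pi.smul_comp]

theorem quadMinus_tail (n l : ℕ) (α β : F) (a : (Fin l ⊕ Fin l) ⊕ Fin 2 → F) :
    quadMinus (n + l) F α β (tailMinus n l a) = quadMinus l F α β a := by
  rw [coe_quadMinus, coe_quadMinus]
  simp [quadFormMinus, tailMinus, tailPlus, Fin.sum_univ_add]

theorem frame_minus (n l : ℕ) (α β : F) :
    Frame (quadMinus (n + l) F α β) n (headVec (Sum.inl ∘ Sum.inl))
      (headVec (Sum.inl ∘ Sum.inr : Fin (n + l) → (Fin (n + l) ⊕ Fin (n + l)) ⊕ Fin 2)) := by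
  constructor <;> intros <;>
    simp_all [headVec_of_lt, coe_quadMinus, quadFormMinus, polar_quadMinus, Pi.single_apply, Ne.symm]

theorem off_minus (n l : ℕ) (α β : F) (a : (Fin l ⊕ Fin l) ⊕ Fin 2 → F) :
    Off (quadMinus (n + l) F α β) n (headVec (Sum.inl ∘ Sum.inl)) (headVec (Sum.inl ∘ Sum.inr)) (tailMinus n l a) :=
  fun i hi => by
    simp [headVec_of_lt, hi, coe_quadMinus, polar_quadMinus, tailMinus, tailPlus, Pi.single_apply, Fin.sum_univ_add,
      Fin.ext_iff]
    exact ⟨Finset.sum_eq_zero fun x _ => if_neg (by omega), Finset.sum_eq_zero fun x _ => if_neg (by omega)⟩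

theorem span_minus (n l : ℕ) (w : (Fin (n + l) ⊕ Fin (n + l)) ⊕ Fin 2 → F) :
    w ∈ Submodule.span F {x | ∃ i, i < n ∧ (x = headVec (Sum.inl ∘ Sum.inl) i ∨ x = headVec (Sum.inl ∘ Sum.inr) i)} ⊔
      LinearMap.range (tailMinus n l) := by
  rw [pi_eq_sum_univ' w]
  refine Submodule.sum_mem _ fun x _ => Submodule.smul_mem _ _ ?_
  rcases x with (x | x) | x
  · refine Fin.addCases (fun j => ?_) (fun j => ?_) x
    · exact Submodule.mem_sup_left (Submodule.subset_span ⟨j, j.2, .inl (by rw [headVec_of_lt _ j.2]; rfl)⟩)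
    · refine Submodule.mem_sup_right ⟨Pi.single (Sum.inl (Sum.inl j)) 1, funext fun y => ?_⟩
      rcases y with (y | y) | y
      · refine Fin.addCases (fun k => ?_) (fun k => ?_) y <;>
          simp [tailMinus, tailPlus, Pi.single_apply, Fin.ext_iff] <;> omega
      · refine Fin.addCases (fun k => ?_) (fun k => ?_) y <;>
          simp [tailMinus, tailPlus, Pi.single_apply, Fin.ext_iff]
      · simp [tailMinus, Pi.single_apply]
  · refine Fin.addCases (fun j => ?_) (fun j => ?_) x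
    · exact Submodule.mem_sup_left (Submodule.subset_span ⟨j, j.2, .inr (by rw [headVec_of_lt _ j.2]; rfl)⟩)
    · refine Submodule.mem_sup_right ⟨Pi.single (Sum.inl (Sum.inr j)) 1, funext fun y => ?_⟩
      rcases y with (y | y) | y
      · refine Fin.addCases (fun k => ?_) (fun k => ?_) y <;>
          simp [tailMinus, tailPlus, Pi.single_apply, Fin.ext_iff]
      · refine Fin.addCases (fun k => ?_) (fun k => ?_) y <;>
          simp [tailMinus, tailPlus, Pi.single_apply, Fin.ext_iff] <;> omega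
      · simp [tailMinus, Pi.single_apply]
  · refine Submodule.mem_sup_right ⟨Pi.single (Sum.inr x) 1, funext fun y => ?_⟩
    rcases y with (y | y) | y
    · refine Fin.addCases (fun k => ?_) (fun k => ?_) y <;> simp [tailMinus, tailPlus, Pi.single_apply]
    · refine Fin.addCases (fun k => ?_) (fun k => ?_) y <;> simp [tailMinus, tailPlus, Pi.single_apply]
    · simp [tailMinus, Pi.single_apply]

theorem pomega_minus_two_gen (n : ℕ) (hn : 2 ≤ n) (α β : F)
    (hab : ∀ x y : F, x ^ 2 + α * x * y + β * y ^ 2 = 0 → x = 0 ∧ y = 0) :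
    ∃ g h : POmega F (quadFormMinus (n + 1) F α β),
      Subgroup.closure ({g, h} : Set (POmega F (quadFormMinus (n + 1) F α β))) = ⊤ := by
  obtain ⟨t, ht, hD⟩ := coprime_shift hn
  obtain ⟨vs, c, h1, h2, h3, h4⟩ := minusFour_data hab t ht
  have hG : Good (quadMinus (n + 1) F α β) := Good.of_card (quadMinus_nondeg _ hab) (.inr (by simp; omega))
  obtain ⟨g, h, hgen⟩ := (frame_minus n 1 α β).exists_two_gen_model hG (by simp; omega) hn (tailMinus n 1)
    (quadMinus_tail n 1 α β) (off_minus n 1 α β) (span_minus n 1) vs h1 h2 c h3 hD h4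
  exact pomega_two_gen hgen

/-- The anisotropic line. -/
def lineOdd (m : ℕ) : (Unit ⊕ (Fin 0 ⊕ Fin 0) → F) →ₗ[F] (Unit ⊕ (Fin m ⊕ Fin m) → F) where
  toFun a := Sum.elim (fun _ => a (.inl ())) 0
  map_add' a b := funext fun i => by rcases i with i | i <;> simp
  map_smul' c a := funext fun i => by rcases i with i | i <;> simp

/-- A unit vector. -/
def unitVec {ι : Type} [DecidableEq ι] {m : ℕ} (inc : Fin m → ι) (i : ℕ) : ι → F :=
  if h : i < m then Pi.single (inc ⟨i, h⟩) 1 else 0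

theorem unitVec_of_lt {ι : Type} [DecidableEq ι] {m : ℕ} (inc : Fin m → ι) {i : ℕ} (h : i < m) :
    (unitVec inc i : ι → F) = Pi.single (inc ⟨i, h⟩) 1 := dif_pos h

theorem pomega_odd_two_gen (hodd : Odd (Fintype.card F)) (m : ℕ) (hm : 2 ≤ m) :
    ∃ g h : POmega F (quadFormOdd m F), Subgroup.closure ({g, h} : Set (POmega F (quadFormOdd m F))) = ⊤ := by
  have h2 : (2 : F) ≠ 0 := fun h2 => by
    have hc : ringChar F = 2 := CharP.ringChar_of_prime_eq_zero Nat.prime_two (by exact_mod_cast h2)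
    have := (FiniteField.even_card_iff_char_two).1 hc
    rw [Nat.odd_iff] at hodd
    omega
  obtain ⟨t, ht, hD⟩ := coprime_shift hm
  obtain ⟨vs, c, h1, h2', h3, h4⟩ := oneDim_data h2 t ht
  have hF : Frame (quadOdd m F) m (unitVec (Sum.inr ∘ Sum.inl))
      (unitVec (Sum.inr ∘ Sum.inr : Fin m → Unit ⊕ (Fin m ⊕ Fin m))) := by
    constructor <;> intros <;>
      simp_all [unitVec_of_lt, coe_quadOdd, quadFormOdd, polar_quadOdd, Pi.single_apply, Ne.symm]
  obtain ⟨g, h, hgen⟩ := hF.exists_two_gen_model (Good.of_two_ne_zero (quadOdd_nondeg m h2) h2)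
    (by simp; omega) hm (lineOdd m) (fun a => by simp [coe_quadOdd, quadFormOdd, lineOdd])
    (fun a i hi => by simp [unitVec_of_lt, hi, coe_quadOdd, polar_quadOdd, lineOdd])
    (fun w => by
      rw [pi_eq_sum_univ' w]
      refine Submodule.sum_mem _ fun x _ => Submodule.smul_mem _ _ ?_
      rcases x with x | x | x
      · refine Submodule.mem_sup_right ⟨Pi.single (Sum.inl ()) 1, funext fun y => ?_⟩
        rcases y with y | y <;> simp [lineOdd]
      · exact Submodule.mem_sup_left (Submodule.subset_span ⟨x, x.2, .inl (by rw [unitVec_of_lt _ x.2]; rfl)⟩)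
      · exact Submodule.mem_sup_left (Submodule.subset_span ⟨x, x.2, .inr (by rw [unitVec_of_lt _ x.2]; rfl)⟩))
    vs h1 h2' c h3 hD h4
  exact pomega_two_gen hgen

end Cfsg.Agent.OrthTwoGen
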