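import Cfsg.Agent.Lib.OrthTwoGen.Frame
import Cfsg.Agent.Lib.Orth.Models

/-!
# Cyclic products of reflections on small quadratic spaces

* `plusFour_data`, `plusSix_data`, `minusFour_data`, `oneDim_data` : the data for `Frame.exists_two_gen_model`
-/

set_option autoImplicit false
set_option linter.unusedSectionVars false

namespace Cfsg.Agent.OrthTwoGen

open Cfsg Matrix Module Cfsg.Agent.Orth
open QuadraticMap (polar)

variable {F : Type*} [Field F] [Fintype F]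

/-- Coordinates `(a, a', b, b')`. -/
def vec4 (a a' b b' : F) : Fin 2 ⊕ Fin 2 → F := Sum.elim ![a, b] ![a', b']

theorem vec4_sub (a a' b b' x x' y y' : F) :
    vec4 a a' b b' - vec4 x x' y y' = vec4 (a - x) (a' - x') (b - y) (b' - y') := by
  funext i; rcases i with i | i <;> fin_cases i <;> rfl

theorem vec4_smul (s a a' b b' : F) : s • vec4 a a' b b' = vec4 (s * a) (s * a') (s * b) (s * b') := by
  funext i; rcases i with i | i <;> fin_cases i <;> rfl

theorem Q_vec4 (a a' b b' : F) : quadPlus 2 F (vec4 a a' b b') = a * a' + b * b' := by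
  rw [coe_quadPlus, quadFormPlus, Fin.sum_univ_two]; rfl

theorem pl_vec4 (a a' b b' x x' y y' : F) : polar ⇑(quadPlus 2 F) (vec4 a a' b b') (vec4 x x' y y') =
    a * x' + x * a' + (b * y' + y * b') := by
  rw [coe_quadPlus, polar_quadPlus, Fin.sum_univ_two]; rfl

theorem plusFour_data : ∃ (vs : List (Fin 2 ⊕ Fin 2 → F)) (c : Fin 2 ⊕ Fin 2 → F), Odd vs.length ∧
    (∀ v ∈ vs, quadPlus 2 F v ≠ 0) ∧ polar ⇑(quadPlus 2 F) c ((reflList (quadPlus 2 F) vs)^[3] c) ≠ 0 ∧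
    ∀ a, a ∈ Submodule.span F (Set.range fun k : ℕ => (reflList (quadPlus 2 F) vs)^[k] c) := by
  set vs : List (Fin 2 ⊕ Fin 2 → F) := [vec4 0 0 1 (-1), vec4 0 1 (-1) (-1), vec4 1 (-1) 0 1] with hvs
  set c : Fin 2 ⊕ Fin 2 → F := vec4 1 0 0 0 with hc
  have h1 : reflList (quadPlus 2 F) vs c = vec4 0 0 0 1 := by
    simp only [reflList, hvs, hc, List.foldr_cons, List.foldr_nil, Q_vec4, pl_vec4, vec4_smul, vec4_sub]
    norm_num
  have h2 : reflList (quadPlus 2 F) vs (vec4 0 0 0 1) = vec4 0 1 0 (-1) := by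
    simp only [reflList, hvs, List.foldr_cons, List.foldr_nil, Q_vec4, pl_vec4, vec4_smul, vec4_sub]
    norm_num
  have h3 : reflList (quadPlus 2 F) vs (vec4 0 1 0 (-1)) = vec4 1 (-1) 1 1 := by
    simp only [reflList, hvs, List.foldr_cons, List.foldr_nil, Q_vec4, pl_vec4, vec4_smul, vec4_sub]
    norm_num
  set S := Submodule.span F (Set.range fun k : ℕ => (reflList (quadPlus 2 F) vs)^[k] c)
  have hmem : ∀ k : ℕ, (reflList (quadPlus 2 F) vs)^[k] c ∈ S := fun k => Submodule.subset_span ⟨k, rfl⟩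
  have i0 : vec4 (1 : F) 0 0 0 ∈ S := hmem 0
  have i1 : vec4 (0 : F) 0 0 1 ∈ S := by simpa [h1] using hmem 1
  have i2 : vec4 (0 : F) 1 0 (-1) ∈ S := by simpa [h1, h2] using hmem 2
  have i3 : vec4 (1 : F) (-1) 1 1 ∈ S := by simpa [h1, h2, h3] using hmem 3
  refine ⟨vs, c, by simp [hvs]; decide, ?_, ?_, fun a => ?_⟩
  · intro v hv
    simp only [hvs, List.mem_cons, List.not_mem_nil, or_false] at hv
    rcases hv with rfl | rfl | rfl <;> rw [Q_vec4] <;> norm_num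
  · rw [show (reflList (quadPlus 2 F) vs)^[3] c = vec4 1 (-1) 1 1 by simp [h1, h2, h3], hc, pl_vec4]
    norm_num
  · have e : a = (a (.inl 0) - a (.inl 1)) • vec4 1 0 0 0 + (a (.inr 1) + a (.inr 0)) • vec4 0 0 0 1 +
        (a (.inr 0) + a (.inl 1)) • vec4 0 1 0 (-1) + a (.inl 1) • vec4 1 (-1) 1 1 := by
      funext i; rcases i with i | i <;> fin_cases i <;> simp [vec4] <;> ring
    rw [e]
    exact S.add_mem (S.add_mem (S.add_mem (S.smul_mem _ i0) (S.smul_mem _ i1)) (S.smul_mem _ i2))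
      (S.smul_mem _ i3)

/-- Coordinates `(a, a', b, b', d, d')`. -/
def vec6 (a a' b b' d d' : F) : Fin 3 ⊕ Fin 3 → F := Sum.elim ![a, b, d] ![a', b', d']

theorem vec6_sub (a a' b b' d d' x x' y y' z z' : F) :
    vec6 a a' b b' d d' - vec6 x x' y y' z z' = vec6 (a - x) (a' - x') (b - y) (b' - y') (d - z) (d' - z') := by
  funext i; rcases i with i | i <;> fin_cases i <;> rfl

theorem vec6_smul (s a a' b b' d d' : F) :
    s • vec6 a a' b b' d d' = vec6 (s * a) (s * a') (s * b) (s * b') (s * d) (s * d') := by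
  funext i; rcases i with i | i <;> fin_cases i <;> rfl

theorem vec6_add (a a' b b' d d' x x' y y' z z' : F) :
    vec6 a a' b b' d d' + vec6 x x' y y' z z' = vec6 (a + x) (a' + x') (b + y) (b' + y') (d + z) (d' + z') := by
  funext i; rcases i with i | i <;> fin_cases i <;> rfl

theorem Q_vec6 (a a' b b' d d' : F) : quadPlus 3 F (vec6 a a' b b' d d') = a * a' + b * b' + d * d' := by
  rw [coe_quadPlus, quadFormPlus, Fin.sum_univ_three]; rfl

theorem pl_vec6 (a a' b b' d d' x x' y y' z z' : F) :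
    polar ⇑(quadPlus 3 F) (vec6 a a' b b' d d') (vec6 x x' y y' z z') =
      a * x' + x * a' + (b * y' + y * b') + (d * z' + z * d') := by
  rw [coe_quadPlus, polar_quadPlus, Fin.sum_univ_three]; rfl

theorem plusSix_data (t : ℕ) (ht : t = 1 ∨ t = 2) :
    ∃ (vs : List (Fin 3 ⊕ Fin 3 → F)) (c : Fin 3 ⊕ Fin 3 → F), Odd vs.length ∧
    (∀ v ∈ vs, quadPlus 3 F v ≠ 0) ∧ polar ⇑(quadPlus 3 F) c ((reflList (quadPlus 3 F) vs)^[t] c) ≠ 0 ∧
    ∀ a, a ∈ Submodule.span F (Set.range fun k : ℕ => (reflList (quadPlus 3 F) vs)^[k] c) := by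
  set vs : List (Fin 3 ⊕ Fin 3 → F) := [vec6 (-1) (-1) (-1) 0 0 0, vec6 0 0 1 (-1) 1 0, vec6 (-1) 1 0 0 0 0,
    vec6 0 0 0 0 1 (-1), vec6 (-1) (-1) 0 0 0 1] with hvs
  set c : Fin 3 ⊕ Fin 3 → F := vec6 1 0 0 0 0 0 with hc
  have h1 : reflList (quadPlus 3 F) vs c = vec6 0 1 1 0 1 0 := by
    norm_num [reflList, hvs, hc, List.foldr_cons, List.foldr_nil, Q_vec6, pl_vec6, vec6_smul, vec6_sub,
      vec6_add]
  have h2 : reflList (quadPlus 3 F) vs (vec6 0 1 1 0 1 0) = vec6 0 (-1) 0 0 0 1 := by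
    norm_num [reflList, hvs, List.foldr_cons, List.foldr_nil, Q_vec6, pl_vec6, vec6_smul, vec6_sub,
      vec6_add]
  have h3 : reflList (quadPlus 3 F) vs (vec6 0 (-1) 0 0 0 1) = vec6 (-1) 0 (-1) 0 0 0 := by
    norm_num [reflList, hvs, List.foldr_cons, List.foldr_nil, Q_vec6, pl_vec6, vec6_smul, vec6_sub,
      vec6_add]
  have h4 : reflList (quadPlus 3 F) vs (vec6 (-1) 0 (-1) 0 0 0) = vec6 1 0 0 (-1) 0 0 := by
    norm_num [reflList, hvs, List.foldr_cons, List.foldr_nil, Q_vec6, pl_vec6, vec6_smul, vec6_sub,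
      vec6_add]
  have h5 : reflList (quadPlus 3 F) vs (vec6 1 0 0 (-1) 0 0) = vec6 0 1 0 0 0 0 := by
    norm_num [reflList, hvs, List.foldr_cons, List.foldr_nil, Q_vec6, pl_vec6, vec6_smul, vec6_sub,
      vec6_add]
  set S := Submodule.span F (Set.range fun k : ℕ => (reflList (quadPlus 3 F) vs)^[k] c)
  have hmem : ∀ k : ℕ, (reflList (quadPlus 3 F) vs)^[k] c ∈ S := fun k => Submodule.subset_span ⟨k, rfl⟩
  have i0 : vec6 (1 : F) 0 0 0 0 0 ∈ S := hmem 0
  have i1 : vec6 (0 : F) 1 1 0 1 0 ∈ S := by simpa [h1] using hmem 1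
  have i2 : vec6 (0 : F) (-1) 0 0 0 1 ∈ S := by simpa [h1, h2] using hmem 2
  have i3 : vec6 (-1 : F) 0 (-1) 0 0 0 ∈ S := by simpa [h1, h2, h3] using hmem 3
  have i4 : vec6 (1 : F) 0 0 (-1) 0 0 ∈ S := by simpa [h1, h2, h3, h4] using hmem 4
  have i5 : vec6 (0 : F) 1 0 0 0 0 ∈ S := by simpa [h1, h2, h3, h4, h5] using hmem 5
  refine ⟨vs, c, by simp [hvs]; decide, ?_, ?_, fun a => ?_⟩
  · intro v hv
    simp only [hvs, List.mem_cons, List.not_mem_nil, or_false] at hv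
    rcases hv with rfl | rfl | rfl | rfl | rfl <;> rw [Q_vec6] <;> norm_num
  · rcases ht with rfl | rfl
    · rw [show (reflList (quadPlus 3 F) vs)^[1] c = vec6 0 1 1 0 1 0 by simp [h1], hc, pl_vec6]
      norm_num
    · rw [show (reflList (quadPlus 3 F) vs)^[2] c = vec6 0 (-1) 0 0 0 1 by simp [h1, h2], hc, pl_vec6]
      norm_num
  · have e : a = (a (.inl 0) + a (.inr 1) - a (.inl 1) + a (.inl 2)) • vec6 1 0 0 0 0 0 +
        a (.inl 2) • vec6 0 1 1 0 1 0 + a (.inr 2) • vec6 0 (-1) 0 0 0 1 +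
        (a (.inl 2) - a (.inl 1)) • vec6 (-1) 0 (-1) 0 0 0 + (-a (.inr 1)) • vec6 1 0 0 (-1) 0 0 +
        (a (.inr 0) - a (.inl 2) + a (.inr 2)) • vec6 0 1 0 0 0 0 := by
      funext i; rcases i with i | i <;> fin_cases i <;> simp [vec6] <;> ring
    rw [e]
    exact S.add_mem (S.add_mem (S.add_mem (S.add_mem (S.add_mem (S.smul_mem _ i0) (S.smul_mem _ i1))
      (S.smul_mem _ i2)) (S.smul_mem _ i3)) (S.smul_mem _ i4)) (S.smul_mem _ i5)

/-- Coordinates `(a, a', z, z')`. -/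
def vecM (a a' z z' : F) : (Fin 1 ⊕ Fin 1) ⊕ Fin 2 → F := Sum.elim (Sum.elim ![a] ![a']) ![z, z']

theorem vecM_sub (a a' z z' x x' y y' : F) :
    vecM a a' z z' - vecM x x' y y' = vecM (a - x) (a' - x') (z - y) (z' - y') := by
  funext i; rcases i with (i | i) | i <;> fin_cases i <;> rfl

theorem vecM_smul (s a a' z z' : F) : s • vecM a a' z z' = vecM (s * a) (s * a') (s * z) (s * z') := by
  funext i; rcases i with (i | i) | i <;> fin_cases i <;> rfl

theorem Q_vecM (α β a a' z z' : F) : quadMinus 1 F α β (vecM a a' z z') =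
    a * a' + (z ^ 2 + α * z * z' + β * z' ^ 2) := by
  rw [coe_quadMinus, quadFormMinus, Fin.sum_univ_one]; rfl

theorem pl_vecM (α β a a' z z' x x' y y' : F) :
    polar ⇑(quadMinus 1 F α β) (vecM a a' z z') (vecM x x' y y') =
      a * x' + x * a' + (2 * (z * y) + α * (z * y' + y * z') + 2 * β * (z' * y')) := by
  rw [coe_quadMinus, polar_quadMinus, Fin.sum_univ_one]; rfl

theorem minusFour_data {α β : F} (hab : ∀ x y : F, x ^ 2 + α * x * y + β * y ^ 2 = 0 → x = 0 ∧ y = 0) (t : ℕ)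
    (ht : t = 1 ∨ t = 2) :
    ∃ (vs : List ((Fin 1 ⊕ Fin 1) ⊕ Fin 2 → F)) (c : (Fin 1 ⊕ Fin 1) ⊕ Fin 2 → F), Odd vs.length ∧
    (∀ v ∈ vs, quadMinus 1 F α β v ≠ 0) ∧
    polar ⇑(quadMinus 1 F α β) c ((reflList (quadMinus 1 F α β) vs)^[t] c) ≠ 0 ∧
    ∀ a, a ∈ Submodule.span F (Set.range fun k : ℕ => (reflList (quadMinus 1 F α β) vs)^[k] c) := by
  obtain ⟨s, hs⟩ : ∃ s : F, 2 * s + α ≠ 0 := by
    by_cases hα : α = 0
    · refine ⟨1, fun h => Aniso.disc_ne_zero hab ?_⟩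
      have h2 : (2 : F) = 0 := by linear_combination h - hα
      rw [hα]; linear_combination -2 * β * h2
    · exact ⟨0, by simpa using hα⟩
  have hq : s ^ 2 + α * s + β ≠ 0 := fun h => one_ne_zero (hab s 1 (by linear_combination h)).2
  set vs : List ((Fin 1 ⊕ Fin 1) ⊕ Fin 2 → F) := [vecM 1 1 0 0, vecM 1 0 1 0, vecM 0 0 s 1] with hvs
  set c : (Fin 1 ⊕ Fin 1) ⊕ Fin 2 → F := vecM 1 0 0 0 with hc
  have h1 : reflList (quadMinus 1 F α β) vs c = vecM 0 (-1) 0 0 := by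
    simp only [reflList, hvs, hc, List.foldr_cons, List.foldr_nil, Q_vecM, pl_vecM, vecM_smul, vecM_sub]
    norm_num
  have h2 : reflList (quadMinus 1 F α β) vs (vecM 0 (-1) 0 0) = vecM 1 (-1) 1 0 := by
    simp only [reflList, hvs, List.foldr_cons, List.foldr_nil, Q_vecM, pl_vecM, vecM_smul, vecM_sub]
    norm_num
  set g := (2 * s + α) / (s ^ 2 + α * s + β) with hg
  set κ := 1 - g * (2 * s + α) with hκ
  have h3 : reflList (quadMinus 1 F α β) vs (vecM 1 (-1) 1 0) =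
      vecM 1 (-1 + κ) (1 - g * s - κ) (-g) := by
    have e3 : (quadMinus 1 F α β (vecM 0 0 s 1))⁻¹ *
        polar ⇑(quadMinus 1 F α β) (vecM 0 0 s 1) (vecM 1 (-1) 1 0) = g := by
      rw [Q_vecM, pl_vecM, hg, div_eq_inv_mul]; congr 1 <;> ring
    have e2 : (quadMinus 1 F α β (vecM 1 0 1 0))⁻¹ *
        polar ⇑(quadMinus 1 F α β) (vecM 1 0 1 0) (vecM 1 (-1) (1 - g * s) (-g)) = κ := by
      rw [Q_vecM, pl_vecM, hκ, show (1 : F) * 0 + (1 ^ 2 + α * 1 * 0 + β * 0 ^ 2) = 1 by ring, inv_one]; ring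
    have e1 : (quadMinus 1 F α β (vecM 1 1 0 0))⁻¹ *
        polar ⇑(quadMinus 1 F α β) (vecM 1 1 0 0) (vecM (1 - κ) (-1) (1 - g * s - κ) (-g)) = -κ := by
      rw [Q_vecM, pl_vecM, show (1 : F) * 1 + (0 ^ 2 + α * 0 * 0 + β * 0 ^ 2) = 1 by ring, inv_one]; ring
    simp only [reflList, hvs, List.foldr_cons, List.foldr_nil]
    rw [e3, vecM_smul, vecM_sub, mul_zero, mul_one, sub_zero, sub_zero, zero_sub, e2, vecM_smul, vecM_sub,
      mul_zero, mul_one, sub_zero, sub_zero, e1, vecM_smul, vecM_sub]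
    congr 1 <;> ring
  set S := Submodule.span F (Set.range fun k : ℕ => (reflList (quadMinus 1 F α β) vs)^[k] c)
  have hmem : ∀ k : ℕ, (reflList (quadMinus 1 F α β) vs)^[k] c ∈ S := fun k => Submodule.subset_span ⟨k, rfl⟩
  have i0 : vecM (1 : F) 0 0 0 ∈ S := hmem 0
  have i1 : vecM (0 : F) (-1) 0 0 ∈ S := by simpa [h1] using hmem 1
  have i2 : vecM (1 : F) (-1) 1 0 ∈ S := by simpa [h1, h2] using hmem 2
  have i3 : vecM 1 (-1 + κ) (1 - g * s - κ) (-g) ∈ S := by simpa [h1, h2, h3] using hmem 3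
  have hg0 : g ≠ 0 := div_ne_zero hs hq
  refine ⟨vs, c, by simp [hvs]; decide, ?_, ?_, fun a => ?_⟩
  · intro v hv
    simp only [hvs, List.mem_cons, List.not_mem_nil, or_false] at hv
    rcases hv with rfl | rfl | rfl <;> rw [Q_vecM]
    · norm_num
    · norm_num
    · simpa using hq
  · rcases ht with rfl | rfl
    · rw [show (reflList (quadMinus 1 F α β) vs)^[1] c = vecM 0 (-1) 0 0 by simp [h1], hc, pl_vecM]
      norm_num
    · rw [show (reflList (quadMinus 1 F α β) vs)^[2] c = vecM 1 (-1) 1 0 by simp [h1, h2], hc, pl_vecM]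
      norm_num
  · have iz : vecM (0 : F) 0 1 0 ∈ S := by
      have := S.sub_mem (S.sub_mem i2 i0) i1
      simpa [vecM_sub] using this
    have iz' : vecM (0 : F) 0 0 1 ∈ S := by
      have := S.smul_mem (-g⁻¹) (S.sub_mem (S.sub_mem (S.sub_mem i3 i0) (S.smul_mem (1 - κ) i1))
        (S.smul_mem (1 - g * s - κ) iz))
      simp only [vecM_smul, vecM_sub] at this
      convert this using 2
      · ring
      · ring
      · ring
      · field_simp; ring
    have e : a = a (.inl (.inl 0)) • vecM 1 0 0 0 + (-a (.inl (.inr 0))) • vecM 0 (-1) 0 0 +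
        a (.inr 0) • vecM 0 0 1 0 + a (.inr 1) • vecM 0 0 0 1 := by
      funext i; rcases i with (i | i) | i <;> fin_cases i <;> simp [vecM]
    rw [e]
    exact S.add_mem (S.add_mem (S.add_mem (S.smul_mem _ i0) (S.smul_mem _ i1)) (S.smul_mem _ iz))
      (S.smul_mem _ iz')

theorem oneDim_data (h2 : (2 : F) ≠ 0) (t : ℕ) (ht : t = 1 ∨ t = 2) :
    ∃ (vs : List (Unit ⊕ (Fin 0 ⊕ Fin 0) → F)) (c : Unit ⊕ (Fin 0 ⊕ Fin 0) → F), Odd vs.length ∧
    (∀ v ∈ vs, quadOdd 0 F v ≠ 0) ∧ polar ⇑(quadOdd 0 F) c ((reflList (quadOdd 0 F) vs)^[t] c) ≠ 0 ∧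
    ∀ a, a ∈ Submodule.span F (Set.range fun k : ℕ => (reflList (quadOdd 0 F) vs)^[k] c) := by
  set z : Unit ⊕ (Fin 0 ⊕ Fin 0) → F := fun _ => 1 with hz
  have hQ : quadOdd 0 F z = 1 := by simp [coe_quadOdd, quadFormOdd, z]
  have hB : ∀ s : F, polar ⇑(quadOdd 0 F) z (s • z) = 2 * s := fun s => by
    simp [coe_quadOdd, polar_quadOdd, z]
  have h1 : ∀ s : F, reflList (quadOdd 0 F) [z] (s • z) = (-s) • z := fun s => by
    simp only [reflList, List.foldr_cons, List.foldr_nil, hQ, inv_one, one_mul, hB]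
    module
  refine ⟨[z], z, by simp, fun v hv => ?_, ?_, fun a => ?_⟩
  · rw [List.mem_singleton] at hv; subst hv; rw [hQ]; exact one_ne_zero
  · have e1 : reflList (quadOdd 0 F) [z] z = (-1 : F) • z := by
      simpa using h1 1
    rcases ht with rfl | rfl
    · rw [Function.iterate_one, e1, hB]; simpa using h2
    · rw [Function.iterate_succ_apply', Function.iterate_one, e1, h1, hB, neg_neg, mul_one]; exact h2
  · have e : a = a (.inl ()) • z := by
      funext i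
      rcases i with i | i | i
      · simp [z]
      · exact i.elim0
      · exact i.elim0
    rw [e]
    exact Submodule.smul_mem _ _ (Submodule.subset_span ⟨0, rfl⟩)

end Cfsg.Agent.OrthTwoGen
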